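import Cfsg.Agent.H27.CoprimeSizes.QBig

/-!
Groups in which centralisers of noncentral elements of prime power order, for primes other than a
given `s`, behave like those in a group with abelian centralisers.
-/

set_option autoImplicit false
set_option linter.style.haveILetI false

namespace H27.Three

open Subgroup H27.CMN
open H36 (IsPEl isPEl_of_mem)

local notation "C[" x "]" => Subgroup.centralizer (Singleton.singleton x : Set _)

/-- `h` is a noncentral element of prime power order for the prime `t ≠ s`. -/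
def IsGood {G : Type*} [Group G] (s t : ℕ) (h : G) : Prop :=
  t ≠ s ∧ IsPEl t h ∧ h ∉ center G

/-- The centralisers of good elements are disjoint modulo the centre, and none is primary. -/
structure AC (G : Type*) [Group G] (s : ℕ) : Prop where
  cent : ∀ (t p : ℕ) [Fact t.Prime] [Fact p.Prime] (h v : G), IsGood s t h → IsGood s p v →
    v ∈ C[h] → C[v] = C[h]
  other : ∀ (t : ℕ) [Fact t.Prime] (h : G), IsGood s t h →
    ∃ (p : ℕ) (_ : Fact p.Prime), p ≠ t ∧ ∃ v ∈ C[h], IsGood s p v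

variable {G : Type*} [Group G] {s : ℕ}

theorem not_center_conj {a : G} (ha : a ∉ center G) (g : G) : g * a * g⁻¹ ∉ center G :=
  fun hc => ha (by
    have := (Subgroup.Normal.conj_mem inferInstance _ hc g⁻¹ : _ ∈ center G)
    simpa [mul_assoc] using this)

theorem IsGood.conj {t : ℕ} {h : G} (hh : IsGood s t h) (g : G) : IsGood s t (g * h * g⁻¹) :=
  ⟨hh.1, H36.isPEl_conj hh.2.1 g, not_center_conj hh.2.2 g⟩

variable [Finite G]

theorem relIndex_center_eq_of_card {H K : Subgroup G}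
    (hinf : center G ⊓ H = center G ⊓ K) (hcard : Nat.card H = Nat.card K) :
    (center G).relIndex H = (center G).relIndex K := by
  have key : ∀ X : Subgroup G,
      Nat.card (center G ⊓ X : Subgroup G) * (center G).relIndex X = Nat.card X := fun X => by
    rw [← inf_relIndex_right (center G) X, ← relIndex_bot_left,
      relIndex_mul_relIndex _ _ _ bot_le inf_le_right, relIndex_bot_left]
  have h := key H
  rw [hinf, hcard, ← key K] at h
  exact Nat.eq_of_mul_eq_mul_left Nat.card_pos h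

theorem center_inf_rPart (h : G) {t : ℕ} [Fact t.Prime] :
    ∀ v, v ∈ center G ⊓ rPart h t ↔ v ∈ center G ∧ IsPEl t v := fun v =>
  ⟨fun hv => ⟨hv.1, isPEl_of_mem (isPGroup_rPart h) hv.2⟩, fun hv => ⟨hv.1,
    mem_centPow.mpr ⟨center_le_centralizer _ hv.1, fun w _ =>
      mem_cent.mpr (mem_center_iff.mp hv.1 w), pow_sylowExp_iff.mpr hv.2⟩⟩⟩

theorem mem_normalizer_of_cent_eq {h u : G} (he : C[u * h * u⁻¹] = C[h]) :
    u ∈ normalizer ((C[h] : Subgroup G) : Set G) :=
  mem_normalizer_iff.mpr fun w => by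
    conv_rhs => rw [← he, mem_cent_conj]
    simp [mul_assoc]

theorem cent_conj_of_mem_normalizer {h u : G}
    (hu : u ∈ normalizer ((C[h] : Subgroup G) : Set G)) : C[u * h * u⁻¹] = C[h] := by
  ext w
  rw [mem_cent_conj]
  constructor
  · intro hw
    have := (mem_normalizer_iff.mp hu _).mp hw
    simpa [mul_assoc] using this
  · intro hw
    rw [mem_normalizer_iff.mp hu]
    simpa [mul_assoc] using hw

theorem conj_mem_rPart {h u w : G} {t : ℕ}
    (hu : u ∈ normalizer ((C[h] : Subgroup G) : Set G)) (hw : w ∈ rPart h t) :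
    u * w * u⁻¹ ∈ rPart h t :=
  Sizes.conj_mem_centPow' (cent_conj_of_mem_normalizer hu) hw

namespace AC

theorem mem_rPart (A : AC G s) {t p : ℕ} [Fact t.Prime] [Fact p.Prime] {h v : G}
    (hh : IsGood s t h) (hp : p ≠ s) (hv : v ∈ C[h]) (hvp : IsPEl p v) : v ∈ rPart h p := by
  refine mem_centPow.mpr ⟨hv, ?_, pow_sylowExp_iff.mpr hvp⟩
  by_cases hvZ : v ∈ center G
  · exact fun w _ => mem_cent.mpr (mem_center_iff.mp hvZ w)
  · exact (A.cent t p h v hh ⟨hp, hvp, hvZ⟩ hv).ge

theorem card_rPart (A : AC G s) {t p : ℕ} [Fact t.Prime] [hp : Fact p.Prime] {h : G}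
    (hh : IsGood s t h) (hps : p ≠ s) :
    Nat.card (rPart h p) = p ^ (Nat.card C[h]).factorization p := by
  refine le_antisymm (H36.card_le_of_pSubgroup (isPGroup_rPart h) (Sizes.rPart_le_cent h)) ?_
  obtain ⟨T, hTle, hTp, hTc⟩ := H36.exists_full_pSubgroup p C[h]
  exact hTc ▸ card_le_of_le (fun w hw => A.mem_rPart hh hps (hTle hw) (isPEl_of_mem hTp hw))

theorem relIndex_rPart_eq (A : AC G s) {t t' p : ℕ} [Fact t.Prime] [Fact t'.Prime]
    [hp : Fact p.Prime] {h h' : G} (hh : IsGood s t h) (hh' : IsGood s t' h') (hps : p ≠ s)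
    (he : (Nat.card C[h]).factorization p = (Nat.card C[h']).factorization p) :
    (center G).relIndex (rPart h p) = (center G).relIndex (rPart h' p) := by
  refine relIndex_center_eq_of_card ?_ ?_
  · ext v
    rw [center_inf_rPart, center_inf_rPart]
  · rw [A.card_rPart hh hps, A.card_rPart hh' hps, he]

theorem dvd_relIndex_rPart (A : AC G s) {t p : ℕ} [Fact t.Prime] [Fact p.Prime] {h v : G}
    (hh : IsGood s t h) (hv : v ∈ C[h]) (hvg : IsGood s p v) :
    p ∣ (center G).relIndex (rPart h p) :=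
  (exists_pEl_not_center_iff _).mp ⟨v, A.mem_rPart hh hvg.1 hv hvg.2.1, hvg.2.1, hvg.2.2⟩

/-- A good element in the centraliser, of prime different from a given one. -/
theorem exists_other (A : AC G s) {t : ℕ} [Fact t.Prime] {h : G} (hh : IsGood s t h) (r : ℕ) :
    ∃ (p : ℕ) (_ : Fact p.Prime), p ≠ r ∧ ∃ v ∈ C[h], IsGood s p v := by
  by_cases htr : t = r
  · obtain ⟨p, hp, hpt, hv⟩ := A.other t h hh
    exact ⟨p, hp, htr ▸ hpt, hv⟩
  · exact ⟨t, ‹_›, htr, h, mem_cent.mpr rfl, hh⟩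

theorem eq_of_common (A : AC G s) {t t' p : ℕ} [Fact t.Prime] [Fact t'.Prime] [Fact p.Prime]
    {h h' v : G} (hh : IsGood s t h) (hh' : IsGood s t' h') (hv : IsGood s p v) (h1 : v ∈ C[h])
    (h2 : v ∈ C[h']) : C[h] = C[h'] :=
  (A.cent t p h v hh hv h1).symm.trans (A.cent t' p h' v hh' hv h2)

theorem mem_normalizer_of_conj (A : AC G s) {t p : ℕ} [Fact t.Prime] [Fact p.Prime] {h a u : G}
    (hh : IsGood s t h) (ha : IsGood s p a) (hah : a ∈ C[h]) (hua : u * a * u⁻¹ ∈ C[h]) :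
    u ∈ normalizer ((C[h] : Subgroup G) : Set G) := by
  refine mem_normalizer_iff.mpr fun w => ?_
  have h1 : C[u * a * u⁻¹] = C[h] := A.cent t p h _ hh (ha.conj u) hua
  conv_rhs => rw [← h1, mem_cent_conj, A.cent t p h a hh ha hah]
  simp [mul_assoc]

theorem fixed_points (A : AC G s) {t p : ℕ} [Fact t.Prime] [hp : Fact p.Prime] {h u w : G}
    (hh : IsGood s t h) (hps : p ≠ s) (hu : u ∉ C[h]) (hw : w ∈ rPart h p) (hc : Commute u w) :
    w ∈ center G := by
  by_contra hwZ
  exact hu (A.cent t p h w hh ⟨hps, isPEl_of_mem (isPGroup_rPart h) hw, hwZ⟩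
    (Sizes.rPart_le_cent h hw) ▸ mem_cent_comm.mpr hc.symm)

/-- A `t`-group normalising `C[h]` with `t`-th powers inside it. -/
theorem relIndex_dvd (A : AC G s) {t₀ t : ℕ} [Fact t₀.Prime] [ht : Fact t.Prime] {h : G}
    (hh : IsGood s t₀ h) (hts : t ≠ s) {X : Subgroup G} (hX : IsPGroup t X)
    (hnorm : X ≤ normalizer ((C[h] : Subgroup G) : Set G))
    (hpow : ∀ x ∈ X, x ^ t ∈ C[h]) : (rPart h t).relIndex X ∣ t := by
  obtain ⟨p, hp, hpt, v, hv, hvg⟩ := A.exists_other hh t
  have hmem : ∀ x ∈ X, x ∈ C[h] → x ∈ rPart h t ⊓ X := fun x hx hxh =>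
    ⟨A.mem_rPart hh hts hxh (isPEl_of_mem hX hx), hx⟩
  rw [← inf_relIndex_right (rPart h t) X]
  refine two_ops hpt.symm hX (fun x hx a ha => ⟨conj_mem_rPart (hnorm hx) ha.1,
      X.mul_mem (X.mul_mem hx ha.2) (X.inv_mem hx)⟩)
    (fun x hx => hmem _ (X.pow_mem hx t) (hpow x hx)) (isPGroup_rPart (r := p) h)
    (fun hle => hvg.2.2 (hle (A.mem_rPart hh hvg.1 hv hvg.2.1)))
    (fun x hx w hw => conj_mem_rPart (hnorm hx) hw)
    (fun a ha w hw => mem_cent_comm.mp ((mem_centPow.mp ha.1).2.1 (Sizes.rPart_le_cent h hw)))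
    fun x hx hxA w hw hc => A.fixed_points hh hvg.1 (fun hxh => hxA (hmem x hx hxh)) hw hc

/-- Each Sylow subgroup normalises some centraliser, containing it up to index `t`. -/
theorem exists_normalised (A : AC G s) {t : ℕ} [ht : Fact t.Prime] (hts : t ≠ s) (R : Sylow t G)
    (hR : ¬ (R : Subgroup G) ≤ center G) :
    ∃ z ∈ (R : Subgroup G), IsGood s t z ∧ z ^ t ∈ center G ∧
      (∀ u ∈ (R : Subgroup G), ∃ c ∈ center G, u * z * u⁻¹ = z * c) ∧
      (R : Subgroup G) ≤ normalizer ((C[z] : Subgroup G) : Set G) ∧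
      rPart z t ≤ (R : Subgroup G) ∧ (rPart z t).relIndex (R : Subgroup G) ∣ t := by
  obtain ⟨z, hzR, hzZ, hzt, hzc⟩ := exists_central_mod' R.isPGroup' (le_refl (R : Subgroup G)) hR
    (fun u hu a ha => mul_mem (mul_mem hu ha) (inv_mem hu))
  have hz : IsGood s t z := ⟨hts, isPEl_of_mem R.isPGroup' hzR, hzZ⟩
  have hnorm : (R : Subgroup G) ≤ normalizer ((C[z] : Subgroup G) : Set G) := fun u hu =>
    mem_normalizer_of_cent_eq (by
      obtain ⟨c, hc, hcu⟩ := hzc u hu
      rw [hcu, H36.cent_mul_central hc])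
  refine ⟨z, hzR, hz, hzt, hzc, hnorm,
    le_sylow_of_normalised R (isPGroup_rPart z) (fun u hu a ha => conj_mem_rPart (hnorm hu) ha),
    A.relIndex_dvd hz hts R.isPGroup' hnorm fun x hx => ?_⟩
  obtain ⟨c, hc, hcx⟩ := hzc x hx
  exact mem_cent_comm.mpr (pow_commute_of_comm_mod hc hcx hzt).symm

/-- For `rPart h t` inside `R`: it is `rPart z t`, or has order at most `t` modulo the centre. -/
theorem rPart_cases (A : AC G s) {t t' t₀ : ℕ} [Fact t₀.Prime] [Fact t'.Prime] [ht : Fact t.Prime]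
    {R : Subgroup G} {z h : G}
    (hts : t ≠ s) (hz : IsGood s t' z) (hzd : (rPart z t).relIndex R ∣ t)
    (hh : IsGood s t₀ h) (hhR : rPart h t ≤ R) :
    C[h] = C[z] ∨ (center G).relIndex (rPart h t) ≤ t := by
  by_cases he : C[h] = C[z]
  · exact Or.inl he
  right
  set B := rPart h t
  set A' := rPart z t
  have h1 : A'.relIndex B ≤ t := (relIndex_le_of_le_right hhR (H := A')
    (fun h0 => index_ne_zero_of_finite (H := A'.subgroupOf R) h0)).trans
      (Nat.le_of_dvd ht.out.pos hzd)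
  have hinf : A' ⊓ B ≤ center G ⊓ B := le_inf (fun v hv => by
    by_contra hvZ
    exact he (A.eq_of_common (v := v) hh hz ⟨hts, isPEl_of_mem (isPGroup_rPart h) hv.2, hvZ⟩
      (Sizes.rPart_le_cent h hv.2) (Sizes.rPart_le_cent z hv.1))) inf_le_right
  have key : ∀ X : Subgroup G, Nat.card (X ⊓ B : Subgroup G) * X.relIndex B = Nat.card B :=
    fun X => by
    rw [← inf_relIndex_right X B, ← relIndex_bot_left,
      relIndex_mul_relIndex _ _ _ bot_le inf_le_right, relIndex_bot_left]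
  refine Nat.le_of_mul_le_mul_left ?_ (Nat.card_pos (α := (center G ⊓ B : Subgroup G)))
  rw [key, ← key A']
  exact Nat.mul_le_mul (card_le_of_le hinf) h1

/-- If the centraliser misses part of a Sylow `t`-subgroup, some `t`-element normalises it. -/
theorem exists_normalizer_not_mem (A : AC G s) {t₀ t : ℕ} [Fact t₀.Prime] [ht : Fact t.Prime]
    {h : G} (hh : IsGood s t₀ h) (hts : t ≠ s) (hd : t ∣ (C[h]).index)
    (hBZ : ¬ rPart h t ≤ center G) :
    ∃ u, IsPEl t u ∧ u ∈ normalizer ((C[h] : Subgroup G) : Set G) ∧ u ∉ C[h] ∧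
      u ^ t ∈ C[h] := by
  classical
  obtain ⟨R, hR⟩ := (isPGroup_rPart (r := t) h).exists_le_sylow
  set B := rPart h t
  have hne : B.subgroupOf (R : Subgroup G) < ⊤ := by
    rw [lt_top_iff_ne_top, ne_eq, subgroupOf_eq_top]
    exact fun hle => not_dvd_index_iff.mpr ⟨R, hle.trans (Sizes.rPart_le_cent h)⟩ hd
  have hnc : NormalizerCondition (R : Subgroup G) :=
    Group.normalizerCondition_of_isNilpotent (h := R.isPGroup'.isNilpotent)
  obtain ⟨⟨u, hu⟩, hun, huB⟩ := SetLike.exists_of_lt (hnc _ hne)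
  obtain ⟨a, haB, haZ⟩ := SetLike.not_le_iff_exists.mp hBZ
  obtain ⟨i, hi⟩ := isPEl_of_mem R.isPGroup' hu
  have hN : u ∈ normalizer ((C[h] : Subgroup G) : Set G) := by
    refine A.mem_normalizer_of_conj hh ⟨hts, isPEl_of_mem (isPGroup_rPart h) haB, haZ⟩
      (Sizes.rPart_le_cent h haB) ?_
    exact Sizes.rPart_le_cent h ((mem_normalizer_iff.mp hun ⟨a, hR haB⟩).mp haB)
  have huC : u ∉ C[h] := fun huh => huB (A.mem_rPart hh hts huh ⟨i, hi⟩)
  -- replace `u` by a power with `t`-th power inside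
  have hex : ∃ j, u ^ t ^ j ∈ C[h] := ⟨i, by rw [← hi, pow_orderOf_eq_one]; exact one_mem _⟩
  obtain ⟨j, hj⟩ : ∃ j, Nat.find hex = j + 1 := Nat.exists_eq_succ_of_ne_zero fun h0 =>
    huC (by simpa [h0] using Nat.find_spec hex)
  refine ⟨u ^ t ^ j, H36.isPEl_pow ⟨i, hi⟩ _, pow_mem hN _, Nat.find_min hex (by omega), ?_⟩
  have := Nat.find_spec hex
  rwa [hj, pow_succ, pow_mul] at this

end AC

end H27.Three
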