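import Cfsg.Agent.H27.ThreeSizes.NoInclSolvable

/-!
Noncentral class sizes `m` and `m * l`: generalities, and the case that `l` is a prime power.
-/

set_option autoImplicit false
set_option linter.style.haveILetI false
set_option linter.unusedSectionVars false

namespace H27.Three

open Subgroup H27.CMN
open H36 (IsPEl isPEl_of_mem)

local notation "C[" x "]" => Subgroup.centralizer (Singleton.singleton x : Set _)

universe u

/-- Noncentral class sizes `m` and `m * l`. -/
structure Chain (G : Type u) [Group G] (m l : ℕ) : Prop where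
  one_lt_m : 1 < m
  one_lt_l : 1 < l
  sizes : ∀ x : G, x ∉ center G → (Subgroup.centralizer ({x} : Set G)).index = m ∨
    (Subgroup.centralizer ({x} : Set G)).index = m * l
  ex_m : ∃ x : G, (Subgroup.centralizer ({x} : Set G)).index = m
  ex_ml : ∃ x : G, (Subgroup.centralizer ({x} : Set G)).index = m * l

variable {G : Type u} [Group G] [Finite G] {m l : ℕ}

namespace Chain

theorem not_center_of_m (S : Chain G m l) {x : G} (hx : (C[x]).index = m) : x ∉ center G :=
  fun h => S.one_lt_m.ne (by rw [← hx, index_cent_eq_one_iff.mpr h])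

theorem dvd_ml (S : Chain G m l) {x : G} (hx : x ∉ center G) : (C[x]).index ∣ m * l := by
  rcases S.sizes x hx with h | h <;> simp [h]

theorem m_dvd (S : Chain G m l) {x : G} (hx : x ∉ center G) : m ∣ (C[x]).index := by
  rcases S.sizes x hx with h | h <;> simp [h]

theorem eq_of_le_of_index_eq {u v : G} (hle : C[u] ≤ C[v]) (he : (C[u]).index = (C[v]).index) :
    C[u] = C[v] :=
  eq_of_le_of_card_ge hle (le_of_eq (card_cent_eq_of_index_eq he.symm))

theorem eq_of_le_m (S : Chain G m l) {u v : G} (hu : (C[u]).index = m) (hv : v ∉ center G)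
    (hle : C[u] ≤ C[v]) : C[v] = C[u] :=
  (eq_of_le_of_index_eq hle
    (hu.trans (Nat.dvd_antisymm (S.m_dvd hv) (hu ▸ index_dvd_of_le hle)))).symm

theorem eq_of_le_ml (S : Chain G m l) {u v : G} (hu : (C[u]).index = m * l) (hv : v ∉ center G)
    (hle : C[v] ≤ C[u]) : C[v] = C[u] :=
  eq_of_le_of_index_eq hle
    (Nat.dvd_antisymm (hu ▸ S.dvd_ml hv) (index_dvd_of_le hle))

theorem mul_not_center {u w : G} (hu : u ∉ center G) (hc : Commute u w)
    (hco : (orderOf u).Coprime (orderOf w)) : u * w ∉ center G := fun h => hu (by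
  rw [← cent_eq_top_iff] at h ⊢
  exact top_le_iff.mp (h ▸ cent_mul_le_left hc hco))

/-- Coprime commuting elements, the first of class size `m * l`. -/
theorem cent_le_of_ml (S : Chain G m l) {u w : G} (hu : (C[u]).index = m * l) (huZ : u ∉ center G)
    (hw : w ∈ C[u]) (hco : (orderOf u).Coprime (orderOf w)) : C[u] ≤ C[w] := by
  have hc : Commute u w := mem_cent_comm.mp hw
  rw [← S.eq_of_le_ml hu (mul_not_center huZ hc hco) (cent_mul_le_left hc hco)]
  exact cent_mul_le_right hc hco

theorem rel_cases (S : Chain G m l) {u w : G} (hu : (C[u]).index = m) (hw : w ∈ C[u])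
    (hco : (orderOf u).Coprime (orderOf w)) :
    (C[w]).relIndex C[u] = 1 ∨ (C[w]).relIndex C[u] = l := by
  have hc : Commute u w := mem_cent_comm.mp hw
  have h1 : (C[u * w]).index = (C[w]).relIndex C[u] * m := by
    rw [cent_mul_eq hc hco, inf_comm, ← relIndex_mul_index (inf_le_right : C[w] ⊓ C[u] ≤ C[u]),
      inf_relIndex_right, hu]
  have hm : 0 < m := by have := S.one_lt_m; omega
  rcases S.sizes _ (mul_not_center (S.not_center_of_m hu) hc hco) with h | h
  · left
    rw [h] at h1
    exact Nat.eq_of_mul_eq_mul_right hm (by rw [one_mul]; exact h1.symm)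
  · right
    rw [h, mul_comm m] at h1
    exact Nat.eq_of_mul_eq_mul_right hm h1.symm

theorem rel_eq_mul (S : Chain G m l) {x y : G} (hx : (C[x]).index = m)
    (hy : (C[y]).index = m * l) :
    (center G).relIndex C[x] = (center G).relIndex C[y] * l := by
  have h1 := relIndex_center_mul_index x
  rw [← relIndex_center_mul_index y, hx, hy, mul_comm m l, ← mul_assoc] at h1
  exact Nat.eq_of_mul_eq_mul_right (by have := S.one_lt_m; omega) h1

/-- A prime not dividing `l` occurs in all noncentral centralisers. -/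
theorem dvd_rel (S : Chain G m l) {r : ℕ} [hr : Fact r.Prime] (hrl : ¬ r ∣ l)
    (hrd : r ∣ (center G).index) {g : G} (hg : g ∉ center G) :
    r ∣ (center G).relIndex C[g] := by
  obtain ⟨u, -, huZ, hud⟩ := exists_pEl_of_dvd_index_center hrd
  rcases S.sizes g hg with hgi | hgi <;> rcases S.sizes u huZ with hui | hui
  · rwa [relIndex_center_eq_of_index_eq (hgi.trans hui.symm)]
  · rw [S.rel_eq_mul hgi hui]; exact hud.mul_right l
  · rw [S.rel_eq_mul hui hgi] at hud; exact (hr.out.dvd_mul.mp hud).resolve_right hrl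
  · rwa [relIndex_center_eq_of_index_eq (hgi.trans hui.symm)]

theorem exists_primary (S : Chain G m l) {x : G} (hx : (C[x]).index = m) :
    ∃ (p : ℕ) (_ : Fact p.Prime) (k : ℕ), IsPEl p (x ^ k) ∧ (C[x ^ k]).index = m ∧
      C[x ^ k] = C[x] := by
  obtain ⟨p, hp, i, h1, h2⟩ := H36.exists_primary_not_mem (center G) (S.not_center_of_m hx)
  have h3 := S.eq_of_le_m hx h2 (cent_le_cent_pow x i)
  exact ⟨p, hp, i, h1, by rw [h3, hx], h3⟩

/-! ### `l` a prime power -/

variable {p b : ℕ} [hp : Fact p.Prime]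

/-- In the centraliser of a `p`-regular element of class size `m`, other primes are central. -/
theorem central_of_coprime (S : Chain G m l) (hl : l = p ^ b) {s q : ℕ} [hs : Fact s.Prime]
    [hq : Fact q.Prime] (hsp : s ≠ p) (hqp : q ≠ p) (hqs : q ≠ s) {h w : G} (hh : IsPEl s h)
    (hm : (C[h]).index = m) (hwp : IsPEl q w) (hw : w ∈ C[h]) : C[h] ≤ C[w] := by
  have hreg : ∀ x : C[h], (orderOf x).Coprime s → (C[x]).index = 1 ∨ (C[x]).index = p ^ b := by
    intro x hx
    rw [index_cent_subgroup, ← hl]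
    exact S.rel_cases hm x.2 (pEl_coprime hh (by rwa [Subgroup.orderOf_coe]))
  have hnd : ∀ (t : ℕ) [Fact t.Prime] (x : C[h]), t ≠ p → (orderOf x).Coprime s →
      ¬ t ∣ (C[x]).index := by
    intro t ht x htp hx hd
    rcases hreg x hx with h1 | h1 <;> rw [h1] at hd
    · exact ht.out.not_dvd_one hd
    · exact htp ((Nat.prime_dvd_prime_iff_eq ht.out hp.out).mp (ht.out.dvd_of_dvd_pow hd))
  have hq' : ∀ x : C[h], ¬ q ∣ (C[x]).index := by
    intro x
    obtain ⟨a, c, hac, ha, hc⟩ := H36.exists_pow_decomp (p := s) x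
    obtain ⟨P, hP⟩ := (H36.isPGroup_zpowers_of_isPEl hc).exists_le_sylow
    have htop := sylow_normal_of_pRegular (fun v hv => hnd s v hsp hv) P
    set CP := centralizer ((P : Subgroup C[h]) : Set C[h])
    haveI hPn : (P : Subgroup C[h]).Normal := by
      rw [← normalizer_eq_top_iff, ← top_le_iff, ← htop]
      exact sup_le le_normalizer (centralizer_le_normalizer _)
    have h1 : CP.index ∣ Nat.card (P : Subgroup C[h]) := by
      have h2 : (P : Subgroup C[h]).index = (P : Subgroup C[h]).relIndex CP := by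
        rw [← relIndex_top_right, ← htop, sup_comm, relIndex_sup_right]
      have h3 := (P : Subgroup C[h]).card_mul_index
      rw [← CP.card_mul_index, h2] at h3
      refine Nat.dvd_of_mul_dvd_mul_left (Nat.card_pos (α := CP)) ?_
      rw [← h3, mul_comm (Nat.card CP)]
      exact Nat.mul_dvd_mul_left _ (relIndex_dvd_card _ _)
    have h4 : ¬ q ∣ (C[x ^ c]).index := fun hd => by
      have h5 : CP ≤ C[x ^ c] := fun g hg =>
        mem_cent.mpr (mem_centralizer_iff.mp hg _ (hP (mem_zpowers _))).symm
      rw [P.card_eq_multiplicity] at h1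
      exact hqs ((Nat.prime_dvd_prime_iff_eq hq.out hs.out).mp
        (hq.out.dvd_of_dvd_pow ((hd.trans (index_dvd_of_le h5)).trans h1)))
    have h6 : (C[x]).index ∣ (C[x ^ a]).index * (C[x ^ c]).index := by
      have hco : (orderOf (x ^ a)).Coprime (orderOf (x ^ c)) := by
        obtain ⟨i, hi⟩ := hc
        exact hi ▸ ha.pow_right i
      have hcop : (C[x ^ a]).index.Coprime (C[x ^ c]).index := by
        refine Nat.coprime_of_dvd fun t ht h8 h9 => ?_
        haveI : Fact t.Prime := ⟨ht⟩
        have h5 : CP ≤ C[x ^ c] := fun g hg =>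
          mem_cent.mpr (mem_centralizer_iff.mp hg _ (hP (mem_zpowers _))).symm
        rw [P.card_eq_multiplicity] at h1
        have hts : t = s := (Nat.prime_dvd_prime_iff_eq ht hs.out).mp
          (ht.dvd_of_dvd_pow ((h9.trans (index_dvd_of_le h5)).trans h1))
        exact hnd t (x ^ a) (hts ▸ hsp) ha h8
      conv_lhs => rw [← hac]
      rw [cent_mul_eq (Commute.pow_pow_self x a c) hco,
        H1.index_inf_eq_of_coprime _ _ hcop]
    intro hd
    exact ((hq.out.dvd_mul.mp (hd.trans h6))).elim (hnd q (x ^ a) hqp ha) h4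
  have hcen := pEl_central (fun v _ => hq' v) (fun v _ => hq' v) (w := (⟨w, hw⟩ : C[h]))
    (by obtain ⟨k, hk⟩ := hwp; exact ⟨k, by rw [Subgroup.orderOf_mk, hk]⟩)
  exact fun g hg => mem_cent.mpr (congrArg Subtype.val (mem_center_iff.mp hcen ⟨g, hg⟩))

/-- The case of `l` a prime power. -/
theorem solvable_of_prime_power (S : Chain G m l) (hl : l = p ^ b) : Group.IsSolvable G := by
  by_contra hns
  have hrl : ∀ (r : ℕ) [Fact r.Prime], r ≠ p → ¬ r ∣ l := fun r hr hrp hd =>
    hrp ((Nat.prime_dvd_prime_iff_eq hr.out hp.out).mp (hr.out.dvd_of_dvd_pow (hl ▸ hd)))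
  have key : ∀ (s q : ℕ) [Fact s.Prime] [Fact q.Prime] (h w : G), s ≠ q → IsGood p s h →
      IsGood p q w → w ∈ C[h] → C[w] = C[h] := by
    intro s q _ _ h w hsq hh hw hwh
    rcases S.sizes h hh.2.2 with hm | hm
    · exact S.eq_of_le_m hm hw.2.2
        (central_of_coprime S hl hh.1 hw.1 hsq.symm hh.2.1 hm hw.2.1 hwh)
    · rcases S.sizes w hw.2.2 with hwm | hwm
      · exact (S.eq_of_le_m hwm hh.2.2 (central_of_coprime S hl hw.1 hh.1 hsq hw.2.1 hwm hh.2.1
          (mem_cent_symm.mp hwh))).symm
      · exact (eq_of_le_of_index_eq (S.cent_le_of_ml hm hh.2.2 hwh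
          (H36.coprime_of_isPEl hsq hh.2.1 hw.2.1)) (hm.trans hwm.symm)).symm
  have hex : ∀ (s : ℕ) [Fact s.Prime] (h : G), IsGood p s h →
      ∃ (r : ℕ) (_ : Fact r.Prime), r ≠ s ∧ ∃ a ∈ C[h], IsGood p r a := by
    intro s _ h hh
    obtain ⟨r, hr, hrp, hrs, hrd⟩ := exists_third_prime hns p s
    obtain ⟨a, ha, hap, haZ⟩ :=
      (exists_pEl_not_center_iff C[h]).mpr (S.dvd_rel (hrl r hrp) hrd hh.2.2)
    exact ⟨r, hr, hrs, a, ha, hrp, hap, haZ⟩
  have K : Config G p :=
    { cent := fun s q _ _ h w hh hw hwh => by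
        rcases eq_or_ne s q with rfl | hsq
        · obtain ⟨r, hr, hrs, a, ha, hag⟩ := hex s h hh
          have h1 := key s r h a hrs.symm hh hag ha
          rw [← h1] at hwh ⊢
          exact key r s a w hrs hag hw hwh
        · exact key s q h w hsq hh hw hwh
      other := fun s _ h hh => hex s h hh
      card_eq := fun t t' q _ _ _ h h' hqp hh hh' => by
        have e : ∀ x : G, x ∉ center G →
            (C[x]).index.factorization q = m.factorization q := by
          intro x hx
          have hm0 : m ≠ 0 := by have := S.one_lt_m; omega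
          rcases S.sizes x hx with h1 | h1 <;> rw [h1]
          rw [hl, Nat.factorization_mul hm0 (pow_ne_zero _ hp.out.ne_zero), Finsupp.add_apply,
            Nat.factorization_eq_zero_of_not_dvd (n := p ^ b) (fun hd => hrl q hqp (hl ▸ hd)),
            add_zero]
        have h1 := factorization_card_add_index C[h] q
        have h2 := factorization_card_add_index C[h'] q
        rw [e h hh.2.2] at h1
        rw [e h' hh'.2.2] at h2
        omega }
  -- hence all class sizes are powers of `p`
  obtain ⟨r, hr, hrp, -, hrd⟩ := exists_third_prime hns p p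
  obtain ⟨g, hg, hgZ, -⟩ := exists_pEl_of_dvd_index_center hrd
  have hrm : ¬ r ∣ m := fun hd =>
    K.not_dvd_index ⟨hrp, hg, hgZ⟩ hrp (hd.trans (S.m_dvd hgZ))
  have hall : ∀ v : G, ¬ r ∣ (C[v]).index := by
    intro v hd
    by_cases hv : v ∈ center G
    · rw [index_cent_eq_one_iff.mpr hv] at hd; exact hr.out.not_dvd_one hd
    · exact (hr.out.dvd_mul.mp (hd.trans (S.dvd_ml hv))).elim hrm (hrl r hrp)
  exact hgZ (pEl_central (fun v _ => hall v) (fun v _ => hall v) hg)

end Chain

end H27.Three
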