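import Cfsg.Agent.H27.ThreeSizes.Chain
import Cfsg.Agent.H27.CoprimeSizes.Abelian

/-!
Noncentral class sizes `m` and `m * l`, `l` not a prime power: the centralisers of class size `m`
are abelian, hence the group is solvable.
-/

set_option autoImplicit false
set_option linter.style.haveILetI false
set_option linter.unusedSectionVars false

namespace H27.Three

open Subgroup H27.CMN
open H36 (IsPEl isPEl_of_mem)

local notation "C[" x "]" => Subgroup.centralizer (Singleton.singleton x : Set _)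

universe u

/-- If elements of order prime to `s` or to `r` have class size `1` or `n`, and `n` is no prime
power, then elements of other prime power orders are central. -/
theorem other_central_pair {Γ : Type u} [Group Γ] [Finite Γ] {n q₁ q₂ s r : ℕ}
    [hq₁ : Fact q₁.Prime] [hq₂ : Fact q₂.Prime] [hsp : Fact s.Prime] [hrp : Fact r.Prime]
    (hn : 1 < n) (hq₁n : q₁ ∣ n) (hq₂n : q₂ ∣ n) (hq : q₁ ≠ q₂) (hsr : s ≠ r)
    (H : ∀ w : Γ, (orderOf w).Coprime s ∨ (orderOf w).Coprime r →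
      (C[w]).index = 1 ∨ (C[w]).index = n)
    {y : ℕ} [hy : Fact y.Prime] (hys : y ≠ s) (hyr : y ≠ r) {h : Γ} (hh : IsPEl y h) :
    h ∈ center Γ := by
  by_contra hhZ
  have hcop : ∀ (p t : ℕ) [Fact p.Prime] [Fact t.Prime] (g : Γ), IsPEl p g → p ≠ t →
      (orderOf g).Coprime t := by
    intro p t hp ht g hg hpt
    obtain ⟨i, hi⟩ := hg
    rw [hi]
    exact ((Nat.coprime_primes hp.out ht.out).mpr hpt).pow_left i
  have hidx : ∀ (p : ℕ) [Fact p.Prime] (g : Γ), IsPEl p g → g ∉ center Γ → (C[g]).index = n := by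
    intro p _ g hg hgZ
    refine (H g ?_).resolve_left fun h1 => hgZ (index_cent_eq_one_iff.mp h1)
    rcases eq_or_ne p s with rfl | hps
    · exact Or.inr (hcop p r g hg hsr)
    · exact Or.inl (hcop p s g hg hps)
  have hle : ∀ (p t : ℕ) [Fact p.Prime] [Fact t.Prime] (g w : Γ), IsPEl p g → g ∉ center Γ →
      IsPEl t w → p ≠ t → w ∈ C[g] → (p ≠ s ∧ t ≠ s) ∨ (p ≠ r ∧ t ≠ r) → C[g] ≤ C[w] := by
    intro p t hp ht g w hg hgZ hw hpt hwg hpq
    have hc : Commute g w := mem_cent_comm.mp hwg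
    have hco : (orderOf g).Coprime (orderOf w) := H36.coprime_of_isPEl hpt hg hw
    have hgw : (C[g * w]).index = n := by
      refine (H (g * w) ?_).resolve_left fun h1 => ?_
      · rw [hc.orderOf_mul_eq_mul_orderOf_of_coprime hco]
        rcases hpq with ⟨h1, h2⟩ | ⟨h1, h2⟩
        · exact Or.inl ((hcop p s g hg h1).mul_left (hcop t s w hw h2))
        · exact Or.inr ((hcop p r g hg h1).mul_left (hcop t r w hw h2))
      · have h2 := index_left_dvd_mul hc hco
        rw [hidx p g hg hgZ, h1] at h2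
        exact hn.ne' (Nat.dvd_one.mp h2)
    have heq : C[g * w] = C[g] := Chain.eq_of_le_of_index_eq (cent_mul_le_left hc hco)
      (hgw.trans (hidx p g hg hgZ).symm)
    exact heq ▸ cent_mul_le_right hc hco
  have hcontains : ∀ (p t : ℕ) [Fact p.Prime] [Fact t.Prime] (g v : Γ), IsPEl p g →
      g ∉ center Γ → IsPEl t v → v ∉ center Γ →
      ∃ w ∈ C[g], IsPEl t w ∧ w ∉ center Γ := fun p t _ _ g v hg hgZ hv hvZ =>
    Sizes.exists_pEl_in_cent hv hvZ (dvd_of_eq ((hidx p g hg hgZ).trans (hidx t v hv hvZ).symm))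
  obtain ⟨q, hqf, hqy, hqn⟩ : ∃ q : ℕ, Fact q.Prime ∧ q ≠ y ∧ q ∣ n := by
    by_cases h1 : q₁ = y
    · exact ⟨q₂, hq₂, fun h2 => hq (h1.trans h2.symm), hq₂n⟩
    · exact ⟨q₁, hq₁, h1, hq₁n⟩
  haveI := hqf
  obtain ⟨v₀, hv₀, hv₀Z⟩ : ∃ v : Γ, IsPEl q v ∧ v ∉ center Γ := by
    by_contra hall
    push Not at hall
    obtain ⟨Q⟩ : Nonempty (Sylow q Γ) := inferInstance
    refine (not_dvd_index_iff.mpr ⟨Q, fun a ha => ?_⟩) (hidx y h hh hhZ ▸ hqn)
    exact center_le_centralizer _ (hall a (isPEl_of_mem Q.isPGroup' ha))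
  have hav : ∀ p : ℕ, (y ≠ s ∧ p ≠ s) ∨ (y ≠ r ∧ p ≠ r) := fun p => by
    by_cases hps : p = s
    · exact Or.inr ⟨hyr, hps ▸ hsr⟩
    · exact Or.inl ⟨hys, hps⟩
  -- centralisers of noncentral `y`-elements are abelian
  have habs : ∀ g : Γ, IsPEl y g → g ∉ center Γ → ∀ a ∈ C[g], C[g] ≤ C[a] := by
    intro g hg hgZ a ha
    refine le_cent_of_primary (fun p hp w hw hwp => ?_) ha
    rcases eq_or_ne p y with rfl | hpy
    · obtain ⟨v, hvg, hv, hvZ⟩ := hcontains p q g v₀ hg hgZ hv₀ hv₀Z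
      have h1 : C[g] ≤ C[v] := hle p q g v hg hgZ hv hqy.symm hvg (hav q)
      have h2 : C[g] = C[v] :=
        Chain.eq_of_le_of_index_eq h1 ((hidx p g hg hgZ).trans (hidx q v hv hvZ).symm)
      rw [h2]
      exact hle q p v w hv hvZ hwp hqy (h2 ▸ hw) ((hav q).imp And.symm And.symm)
    · exact hle y p g w hg hgZ hwp hpy.symm hw (hav p)
  -- hence all centralisers of noncentral elements are abelian, of the same index
  have htwo : ∀ x : Γ, (C[x]).index = 1 ∨ (C[x]).index = n := by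
    intro x
    by_cases hx : x ∈ center Γ
    · exact Or.inl (index_cent_eq_one_iff.mpr hx)
    obtain ⟨p, hp, i, hgp, hgZ⟩ := H36.exists_primary_not_mem (center Γ) hx
    obtain ⟨h', hh'g, hh', hh'Z⟩ := hcontains p y (x ^ i) h hgp hgZ hh hhZ
    have h1 : C[h'] ≤ C[x ^ i] := habs h' hh' hh'Z _ (mem_cent_symm.mp hh'g)
    have h2 : C[h'] = C[x ^ i] :=
      Chain.eq_of_le_of_index_eq h1 ((hidx y h' hh' hh'Z).trans (hidx p _ hgp hgZ).symm)
    have hxh' : x ∈ C[h'] := h2 ▸ mem_cent_comm.mpr (Commute.pow_self x i)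
    have h3 : C[x] = C[x ^ i] :=
      le_antisymm (cent_le_cent_pow x i) (h2 ▸ habs h' hh' hh'Z x hxh')
    exact Or.inr (h3 ▸ hidx p _ hgp hgZ)
  obtain ⟨p, hp, a, -, hpa⟩ := H36.two_sizes_prime_power htwo hn ⟨h, hhZ⟩
  subst hpa
  exact hq (((Nat.prime_dvd_prime_iff_eq hq₁.out hp.out).mp (hq₁.out.dvd_of_dvd_pow hq₁n)).trans
    ((Nat.prime_dvd_prime_iff_eq hq₂.out hp.out).mp (hq₂.out.dvd_of_dvd_pow hq₂n)).symm)

variable {G : Type u} [Group G] [Finite G] {m l : ℕ}

theorem isPEl_subtype {H : Subgroup G} {p : ℕ} {g : G} (hg : g ∈ H) (hp : IsPEl p g) :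
    IsPEl p (⟨g, hg⟩ : H) := by
  obtain ⟨k, hk⟩ := hp
  exact ⟨k, by rw [Subgroup.orderOf_mk, hk]⟩

/-- No `r`-element for a prime `r ≠ s` has the same centraliser. -/
def NoDouble (s : ℕ) (v : G) : Prop :=
  ∀ (r : ℕ) [Fact r.Prime] (w : G), r ≠ s → IsPEl r w → w ∉ center G → C[w] ≠ C[v]

namespace Chain

variable {q₁ q₂ : ℕ} [hq₁ : Fact q₁.Prime] [hq₂ : Fact q₂.Prime]

/-- A centraliser of class size `m` of two elements of coprime orders is abelian. -/
theorem abelian_of_double (S : Chain G m l) (hns : ¬ Group.IsSolvable G) (hq₁l : q₁ ∣ l)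
    (hq₂l : q₂ ∣ l) (hq : q₁ ≠ q₂) {s r : ℕ} [hsp : Fact s.Prime] [hrp : Fact r.Prime]
    (hrs : r ≠ s) {v w : G} (hv : IsPEl s v) (hvm : (C[v]).index = m) (hw : IsPEl r w)
    (hwv : C[w] = C[v]) : ∀ a ∈ C[v], C[v] ≤ C[a] := by
  have hwm : (C[w]).index = m := by rw [hwv, hvm]
  have H : ∀ x : C[v], (orderOf x).Coprime s ∨ (orderOf x).Coprime r →
      (C[x]).index = 1 ∨ (C[x]).index = l := by
    rintro x (hx | hx) <;> rw [index_cent_subgroup]
    · exact S.rel_cases hvm x.2 (pEl_coprime hv (by rwa [Subgroup.orderOf_coe]))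
    · have h1 := S.rel_cases hwm (w := (x : G)) (hwv.symm ▸ x.2)
        (pEl_coprime hw (by rwa [Subgroup.orderOf_coe]))
      rwa [hwv] at h1
  intro a ha b hb
  suffices hall : (⟨a, ha⟩ : C[v]) ∈ center C[v] from
    mem_cent.mpr (congrArg Subtype.val (mem_center_iff.mp hall ⟨b, hb⟩))
  by_contra hnc
  obtain ⟨p, hp, i, hgp, hgZ⟩ := H36.exists_primary_not_mem (center C[v]) hnc
  have hidx : (C[(⟨a, ha⟩ : C[v]) ^ i]).index = l := by
    refine (H _ ?_).resolve_left fun h1 => hgZ (index_cent_eq_one_iff.mp h1)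
    obtain ⟨k, hk⟩ := hgp
    rw [hk]
    by_cases hps : p = s
    · exact Or.inr (((Nat.coprime_primes hp.out hrp.out).mpr
        (fun h => hrs (h.symm.trans hps))).pow_left k)
    · exact Or.inl (((Nat.coprime_primes hp.out hsp.out).mpr hps).pow_left k)
  have hcen : ∀ (y : ℕ) [Fact y.Prime] (h : C[v]), y ≠ s → y ≠ r → IsPEl y h →
      h ∈ center C[v] := fun y _ h hys hyr hh =>
    other_central_pair S.one_lt_l hq₁l hq₂l hq hrs.symm H hys hyr hh
  have hprimes : ∀ (y : ℕ) [Fact y.Prime], y ≠ s → y ≠ r → ¬ y ∣ l := by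
    intro y hy hys hyr hd
    obtain ⟨Q⟩ : Nonempty (Sylow y C[v]) := inferInstance
    refine (not_dvd_index_iff.mpr ⟨Q, fun x hx => ?_⟩) (hidx ▸ hd)
    exact center_le_centralizer _ (hcen y x hys hyr (isPEl_of_mem Q.isPGroup' hx))
  obtain ⟨y, hy, hys, hyr, hyd⟩ := exists_third_prime hns s r
  obtain ⟨e, heC, he, heZ⟩ := (exists_pEl_not_center_iff C[v]).mpr
    (S.dvd_rel (hprimes y hys hyr) hyd (S.not_center_of_m hvm))
  have hecen := hcen y ⟨e, heC⟩ hys hyr (isPEl_subtype heC he)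
  have hev : C[e] = C[v] := S.eq_of_le_m hvm heZ fun x hx =>
    mem_cent.mpr (congrArg Subtype.val (mem_center_iff.mp hecen ⟨x, hx⟩))
  have htwo : ∀ x : C[v], (C[x]).index = 1 ∨ (C[x]).index = l := by
    intro x
    obtain ⟨i, j, hij, hi, hj⟩ := H36.exists_pow_decomp (p := y) x
    have h1 : C[x] = C[x ^ i] := by
      conv_lhs => rw [← hij]
      exact cent_mul_center (hcen y _ hys hyr hj) _
    rw [h1, index_cent_subgroup]
    have h2 := S.rel_cases (u := e) (hev.symm ▸ hvm) (w := ((x ^ i : C[v]) : G))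
      (hev.symm ▸ (x ^ i).2) (pEl_coprime he (by rwa [Subgroup.orderOf_coe]))
    rwa [hev] at h2
  obtain ⟨p', hp', k, -, hpk⟩ := H36.two_sizes_prime_power htwo S.one_lt_l ⟨_, hgZ⟩
  subst hpk
  exact hq (((Nat.prime_dvd_prime_iff_eq hq₁.out hp'.out).mp (hq₁.out.dvd_of_dvd_pow hq₁l)).trans
    ((Nat.prime_dvd_prime_iff_eq hq₂.out hp'.out).mp (hq₂.out.dvd_of_dvd_pow hq₂l)).symm)

/-- Without a double, regular elements have class size `l` in the centraliser. -/
theorem rel_eq_l (S : Chain G m l) {s t : ℕ} [Fact s.Prime] [Fact t.Prime] {v h : G}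
    (hv : IsPEl s v) (hvm : (C[v]).index = m) (hnd : NoDouble s v) (hts : t ≠ s)
    (hh : IsPEl t h) (hhZ : h ∉ center G) (hhv : h ∈ C[v]) :
    (C[h]).relIndex C[v] = l ∧ (C[v * h]).index = m * l := by
  have hco := H36.coprime_of_isPEl hts.symm hv hh
  have h1 : (C[h]).relIndex C[v] = l := (S.rel_cases hvm hhv hco).resolve_left fun h1 =>
    hnd t h hts hh hhZ (S.eq_of_le_m hvm hhZ (relIndex_eq_one.mp h1))
  refine ⟨h1, ?_⟩
  rw [cent_mul_eq (mem_cent_comm.mp hhv) hco, inf_comm,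
    ← relIndex_mul_index (inf_le_right : C[h] ⊓ C[v] ≤ C[v]), inf_relIndex_right, h1, hvm,
    mul_comm]

/-- Without a double, all primes but `s` occur in the small centralisers. -/
theorem dvd_rel_of_noDouble (S : Chain G m l) {s y : ℕ} [Fact s.Prime] [hy : Fact y.Prime]
    {v g : G} (hv : IsPEl s v) (hvm : (C[v]).index = m) (hnd : NoDouble s v) (hys : y ≠ s)
    (hyd : y ∣ (center G).index) (hg : (C[g]).index = m * l) :
    y ∣ (center G).relIndex C[g] := by
  have h1 : y ∣ (center G).relIndex C[v] := by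
    by_cases hyl : y ∣ l
    · rw [S.rel_eq_mul hvm hg]; exact hyl.mul_left _
    · exact S.dvd_rel hyl hyd (S.not_center_of_m hvm)
  obtain ⟨a, haC, ha, haZ⟩ := (exists_pEl_not_center_iff C[v]).mpr h1
  rw [relIndex_center_eq_of_index_eq (hg.trans (S.rel_eq_l hv hvm hnd hys ha haZ haC).2.symm)]
  refine (exists_pEl_not_center_iff _).mp ⟨a, ?_, ha, haZ⟩
  exact mem_cent_comm.mpr ((mem_cent_comm.mp haC).mul_left (Commute.refl a))

/-- Without a double, regular elements of a small centraliser are central in it. -/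
theorem central_regular (S : Chain G m l) (hns : ¬ Group.IsSolvable G) {s t q : ℕ}
    [hsp : Fact s.Prime] [htp : Fact t.Prime] [hqp : Fact q.Prime] {v h w : G} (hv : IsPEl s v)
    (hvm : (C[v]).index = m) (hnd : NoDouble s v) (hts : t ≠ s) (hh : IsPEl t h)
    (hhZ : h ∉ center G) (hhv : h ∈ C[v]) (hqs : q ≠ s) (hw : IsPEl q w)
    (hwT : w ∈ C[v * h]) : C[v * h] ≤ C[w] := by
  have hne : ∀ (t : ℕ) [Fact t.Prime] (h : G), t ≠ s → IsPEl t h → h ∉ center G → h ∈ C[v] →
      q ≠ t → w ∈ C[v * h] → C[v * h] ≤ C[w] := by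
    intro t _ h hts hh hhZ hhv hqt hwT
    have hco := H36.coprime_of_isPEl hts.symm hv hh
    have hc : Commute v h := mem_cent_comm.mp hhv
    refine S.cent_le_of_ml (S.rel_eq_l hv hvm hnd hts hh hhZ hhv).2
      (mul_not_center (S.not_center_of_m hvm) hc hco) hwT ?_
    rw [hc.orderOf_mul_eq_mul_orderOf_of_coprime hco]
    exact (H36.coprime_of_isPEl hqs.symm hv hw).mul_left (H36.coprime_of_isPEl hqt.symm hh hw)
  rcases eq_or_ne q t with rfl | hqt
  swap
  · exact hne t h hts hh hhZ hhv hqt hwT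
  obtain ⟨y, hy, hys, hyq, hyd⟩ := exists_third_prime hns s q
  have hT := (S.rel_eq_l hv hvm hnd hts hh hhZ hhv).2
  have hco := H36.coprime_of_isPEl hts.symm hv hh
  have hc : Commute v h := mem_cent_comm.mp hhv
  obtain ⟨a, haT, ha, haZ⟩ := (exists_pEl_not_center_iff C[v * h]).mpr
    (S.dvd_rel_of_noDouble hv hvm hnd hys hyd hT)
  have hav : a ∈ C[v] := cent_mul_le_left hc hco haT
  have h1 : C[v * h] ≤ C[a] := by
    refine S.cent_le_of_ml hT (mul_not_center (S.not_center_of_m hvm) hc hco) haT ?_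
    rw [hc.orderOf_mul_eq_mul_orderOf_of_coprime hco]
    exact (H36.coprime_of_isPEl hys.symm hv ha).mul_left (H36.coprime_of_isPEl hyq.symm hh ha)
  have h2 : C[v * h] = C[v * a] := by
    refine eq_of_le_of_index_eq ?_ (hT.trans (S.rel_eq_l hv hvm hnd hys ha haZ hav).2.symm)
    rw [cent_mul_eq (mem_cent_comm.mp hav) (H36.coprime_of_isPEl hys.symm hv ha)]
    exact le_inf (cent_mul_le_left hc hco) h1
  rw [h2]
  exact hne y a hys ha haZ hav hyq.symm (h2 ▸ hwT)

/-- Without a double, the small centralisers are abelian. -/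
theorem abelian_small (S : Chain G m l) (hns : ¬ Group.IsSolvable G) (hq₁l : q₁ ∣ l)
    (hq₂l : q₂ ∣ l) (hq : q₁ ≠ q₂) {s t : ℕ} [hsp : Fact s.Prime] [htp : Fact t.Prime]
    {v h : G} (hv : IsPEl s v)
    (hvm : (C[v]).index = m) (hnd : NoDouble s v) (hts : t ≠ s) (hh : IsPEl t h)
    (hhZ : h ∉ center G) (hhv : h ∈ C[v]) : ∀ a ∈ C[v * h], C[v * h] ≤ C[a] := by
  have hT := (S.rel_eq_l hv hvm hnd hts hh hhZ hhv).2
  have hco := H36.coprime_of_isPEl hts.symm hv hh
  have hc : Commute v h := mem_cent_comm.mp hhv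
  intro a ha
  refine le_cent_of_primary (fun q hqf x hx hxq => ?_) ha
  rcases eq_or_ne q s with rfl | hqs
  swap
  · exact S.central_regular hns hv hvm hnd hts hh hhZ hhv hqs hxq hx
  rcases S.sizes h hhZ with hm | hm
  · -- exchange `v` and `h`
    have hnd' : NoDouble t h := by
      intro r _ w hrt hw hwZ hwh
      have hab := S.abelian_of_double hns hq₁l hq₂l hq hrt hh hm hw hwh v (mem_cent_symm.mp hhv)
      exact hnd t h hts hh hhZ (S.eq_of_le_m hm (S.not_center_of_m hvm) hab).symm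
    rw [hc.eq] at hx ⊢
    exact S.central_regular hns hh hm hnd' hts.symm hv (S.not_center_of_m hvm)
      (mem_cent_symm.mp hhv) hts.symm hxq hx
  · have h1 : C[v * h] = C[h] :=
      eq_of_le_of_index_eq (cent_mul_le_right hc hco) (hT.trans hm.symm)
    rw [h1] at hx ⊢
    exact S.cent_le_of_ml hm hhZ hx (H36.coprime_of_isPEl hts hh hxq)

/-- There is always a double. -/
theorem not_noDouble (S : Chain G m l) (hns : ¬ Group.IsSolvable G) (hq₁l : q₁ ∣ l)
    (hq₂l : q₂ ∣ l) (hq : q₁ ≠ q₂) {s : ℕ} [hsp : Fact s.Prime] {v : G} (hv : IsPEl s v)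
    (hvm : (C[v]).index = m) : ¬ NoDouble s v := by
  intro hnd
  have hnZ : ∀ g : C[v], g ∉ center C[v] → (g : G) ∉ center G := fun g hg hgZ =>
    hg (mem_center_iff.mpr fun b => Subtype.ext (mem_center_iff.mp hgZ b))
  have hp : ∀ (t : ℕ) (g : C[v]), IsPEl t g → IsPEl t (g : G) := fun t g hg => by
    obtain ⟨k, hk⟩ := hg
    exact ⟨k, by rw [Subgroup.orderOf_coe, hk]⟩
  have hidx : ∀ (t : ℕ) [Fact t.Prime] (g : C[v]), IsGood s t g → (C[g]).index = l := by
    intro t _ g hg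
    rw [index_cent_subgroup]
    exact (S.rel_eq_l hv hvm hnd hg.1 (hp t g hg.2.1) (hnZ g hg.2.2) g.2).1
  have K : Config C[v] s :=
    { cent := fun t p _ _ g g' hg hg' hgg' => by
        refine (eq_of_le_of_index_eq (G := C[v]) (fun x hx => ?_)
          ((hidx t g hg).trans (hidx p g' hg').symm)).symm
        have hco := H36.coprime_of_isPEl hg.1.symm hv (hp t g hg.2.1)
        have e : ∀ z : C[v], z ∈ C[g] → (z : G) ∈ C[v * (g : G)] := fun z hz => by
          rw [cent_mul_eq (mem_cent_comm.mp g.2) hco]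
          exact ⟨z.2, mem_cent.mpr (congrArg Subtype.val (mem_cent.mp hz))⟩
        exact mem_cent.mpr (Subtype.ext (mem_cent.mp
          (S.abelian_small hns hq₁l hq₂l hq hv hvm hnd hg.1 (hp t g hg.2.1) (hnZ g hg.2.2) g.2
            _ (e g' hgg') (e x hx))))
      other := fun t _ g hg => by
        obtain ⟨y, hy, hys, hyt, hyd⟩ := exists_third_prime hns s t
        have hT := (S.rel_eq_l hv hvm hnd hg.1 (hp t g hg.2.1) (hnZ g hg.2.2) g.2).2
        have hco := H36.coprime_of_isPEl hg.1.symm hv (hp t g hg.2.1)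
        obtain ⟨a, haT, ha, haZ⟩ := (exists_pEl_not_center_iff C[v * (g : G)]).mpr
          (S.dvd_rel_of_noDouble hv hvm hnd hys hyd hT)
        rw [cent_mul_eq (mem_cent_comm.mp g.2) hco] at haT
        refine ⟨y, hy, hyt, ⟨a, haT.1⟩, mem_cent.mpr (Subtype.ext (mem_cent.mp haT.2)), hys,
          isPEl_subtype haT.1 ha, fun hc => hnd y a hys ha haZ (S.eq_of_le_m hvm haZ fun x hx =>
            mem_cent.mpr (congrArg Subtype.val (mem_center_iff.mp hc ⟨x, hx⟩)))⟩
      card_eq := fun t t' q _ _ _ g g' _ hg hg' => by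
        rw [card_cent_eq_of_index_eq (G := C[v]) ((hidx t g hg).trans (hidx t' g' hg').symm)] }
  obtain ⟨g₀, hg₀⟩ := S.ex_ml
  obtain ⟨y, hy, hys, -, hyd⟩ := exists_third_prime hns s s
  obtain ⟨a, haC, ha, haZ⟩ := (exists_pEl_not_center_iff C[v]).mpr
    (show y ∣ (center G).relIndex C[v] by
      rw [S.rel_eq_mul hvm hg₀]
      exact (S.dvd_rel_of_noDouble hv hvm hnd hys hyd hg₀).mul_right l)
  have hgood : IsGood s y (⟨a, haC⟩ : C[v]) := ⟨hys, isPEl_subtype haC ha, fun hc =>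
    hnd y a hys ha haZ (S.eq_of_le_m hvm haZ fun x hx =>
      mem_cent.mpr (congrArg Subtype.val (mem_center_iff.mp hc ⟨x, hx⟩)))⟩
  have hall : ∀ (q : ℕ) [Fact q.Prime], q ∣ l → q = s := fun q _ hql => by
    by_contra hqs
    exact K.not_dvd_index hgood hqs ((hidx y _ hgood).symm ▸ hql)
  exact hq ((hall q₁ hq₁l).trans (hall q₂ hq₂l).symm)

/-- Centralisers of class size `m` are abelian, so there are no proper inclusions. -/
theorem solvable_of_two_primes (S : Chain G m l) (hq₁l : q₁ ∣ l) (hq₂l : q₂ ∣ l)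
    (hq : q₁ ≠ q₂) : Group.IsSolvable G := by
  by_contra hns
  have hab : ∀ x : G, (C[x]).index = m → ∀ a ∈ C[x], C[x] ≤ C[a] := by
    intro x hx
    obtain ⟨s, hs, k, hv, hvm, hvx⟩ := S.exists_primary hx
    have hnd := S.not_noDouble hns hq₁l hq₂l hq hv hvm
    unfold NoDouble at hnd
    push Not at hnd
    obtain ⟨r, hr, w, hrs, hw, -, hwv⟩ := hnd
    rw [← hvx]
    exact S.abelian_of_double hns hq₁l hq₂l hq hrs hv hvm hw hwv
  refine hns (NoIncl.solvable (a := m) (b := m * l) ⟨S.sizes, fun x y hx hy hle => ?_⟩)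
  have hxy : x ∈ C[y] := hle (mem_cent.mpr rfl)
  rcases S.sizes x hx with h | h
  · exact (S.eq_of_le_m h hy hle).symm
  · rcases S.sizes y hy with h' | h'
    · exact le_antisymm hle (hab y h' x hxy)
    · exact eq_of_le_of_index_eq hle (h.trans h'.symm)

/-- Noncentral class sizes `m` and `m * l`: solvable. -/
theorem solvable (S : Chain G m l) : Group.IsSolvable G := by
  obtain ⟨p, hp, hpl⟩ := Nat.exists_prime_and_dvd S.one_lt_l.ne'
  haveI : Fact p.Prime := ⟨hp⟩
  by_cases hall : ∀ d : ℕ, d.Prime → d ∣ l → d = p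
  · exact S.solvable_of_prime_power (p := p) (b := l.primeFactorsList.length)
      (Nat.eq_prime_pow_of_unique_prime_dvd (by have := S.one_lt_l; omega) fun {d} => hall d)
  · push Not at hall
    obtain ⟨d, hd, hdl, hdp⟩ := hall
    haveI : Fact d.Prime := ⟨hd⟩
    exact S.solvable_of_two_primes hdl hpl hdp

end Chain

end H27.Three
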