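import Cfsg.Agent.H27.ThreeSizes.Uniq

/-!
All centralisers of good elements conjugate: the nonfull primes and the prime `2`.
-/

set_option autoImplicit false
set_option linter.style.haveILetI false

namespace H27.Three

open Subgroup H27.CMN
open H36 (IsPEl isPEl_of_mem)

local notation "C[" x "]" => Subgroup.centralizer (Singleton.singleton x : Set _)

/-- `AC`, with centralisers of the same order up to their `s`-parts. -/
structure Config (G : Type*) [Group G] (s : ℕ) : Prop extends AC G s where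
  card_eq : ∀ (t t' p : ℕ) [Fact t.Prime] [Fact t'.Prime] [Fact p.Prime] (h h' : G), p ≠ s →
    IsGood s t h → IsGood s t' h' →
    (Nat.card (Subgroup.centralizer ({h} : Set G))).factorization p =
      (Nat.card (Subgroup.centralizer ({h'} : Set G))).factorization p

variable {G : Type*} [Group G] [Finite G] {s : ℕ}

/-- The elements commuting with `u` modulo the centre. -/
def centMod (u : G) : Subgroup G :=
  (C[(u : G ⧸ center G)]).comap (QuotientGroup.mk' (center G))

omit [Finite G] in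
theorem mem_centMod {u v : G} : v ∈ centMod u ↔ ∃ c ∈ center G, v * u * v⁻¹ = u * c := by
  rw [centMod, mem_comap, mem_cent]
  simp only [QuotientGroup.mk'_apply, ← QuotientGroup.mk_mul, QuotientGroup.eq]
  constructor
  · intro h
    refine ⟨u⁻¹ * (v * u * v⁻¹), ?_, by group⟩
    have := (center G).inv_mem h
    have h2 := mem_center_iff.mp this v
    have h3 : u⁻¹ * (v * u * v⁻¹) = v * ((v * u)⁻¹ * (u * v))⁻¹ * v⁻¹ := by group
    rw [h3, h2, mul_inv_cancel_right]
    exact this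
  · rintro ⟨c, hc, he⟩
    have h1 : (v * u)⁻¹ * (u * v) = v⁻¹ * c⁻¹ * v := by
      rw [show v * u = u * c * v by rw [← he, inv_mul_cancel_right]]
      group
    rw [h1, mul_assoc, ← mem_center_iff.mp (inv_mem hc) v, inv_mul_cancel_left]
    exact inv_mem hc

omit [Finite G] in
theorem mem_centMod_of_mem_cent {u v : G} (h : v ∈ C[u]) : v ∈ centMod u :=
  mem_centMod.mpr ⟨1, one_mem _, by rw [mem_cent.mp h, mul_inv_cancel_right, mul_one]⟩

theorem centMod_le_normalizer (u : G) :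
    centMod u ≤ normalizer ((C[u] : Subgroup G) : Set G) := fun v hv => by
  obtain ⟨c, hc, he⟩ := mem_centMod.mp hv
  exact mem_normalizer_of_cent_eq (by rw [he, H36.cent_mul_central hc])

omit [Finite G] in
theorem pow_mem_cent_of_mem_centMod {u v : G} {t : ℕ} (hu : u ^ t ∈ center G)
    (hv : v ∈ centMod u) : v ^ t ∈ C[u] := by
  obtain ⟨c, hc, he⟩ := mem_centMod.mp hv
  exact mem_cent_comm.mpr (pow_commute_of_comm_mod hc he hu).symm

namespace Config

/-- All centralisers of good elements are conjugate. -/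
theorem conj_all (K : Config G s) {t t' : ℕ} [Fact t.Prime] [Fact t'.Prime] {h h' : G}
    (hh : IsGood s t h) (hh' : IsGood s t' h') : ∃ g : G, C[h'] = C[g * h * g⁻¹] := by
  obtain ⟨p, hp, ⟨v, hv, hvg⟩, hbig⟩ := K.toAC.exists_big hh
  exact K.toAC.exists_conj hh hh' hv hvg (K.card_eq t t' p h h' hvg.1 hh hh') hbig

theorem index_eq (K : Config G s) {t t' : ℕ} [Fact t.Prime] [Fact t'.Prime] {h h' : G}
    (hh : IsGood s t h) (hh' : IsGood s t' h') : (C[h']).index = (C[h]).index := by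
  obtain ⟨g, hg⟩ := K.conj_all hh hh'
  rw [hg, index_cent_conj]

/-- Data at a prime `t` dividing the index. -/
theorem exists_rep (K : Config G s) {t₀ t : ℕ} [Fact t₀.Prime] [ht : Fact t.Prime] {h : G}
    (hh : IsGood s t₀ h) (hts : t ≠ s) (hd : t ∣ (C[h]).index) :
    ∃ (R : Sylow t G) (z : G), z ∈ (R : Subgroup G) ∧ IsGood s t z ∧ z ^ t ∈ center G ∧
      (R : Subgroup G) ≤ centMod z ∧ C[z] = C[h] ∧ rPart z t ≤ (R : Subgroup G) ∧
      (rPart z t).relIndex (R : Subgroup G) = t := by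
  obtain ⟨R₀⟩ : Nonempty (Sylow t G) := inferInstance
  obtain ⟨z₀, hz₀R, hz₀, hz₀t, -, -, -, -⟩ := K.toAC.exists_normalised hts R₀ (fun hle =>
    not_dvd_index_iff.mpr ⟨R₀, hle.trans (center_le_centralizer _)⟩ hd)
  obtain ⟨R₁, hR₁⟩ : ∃ R : Sylow t G, ¬ (R : Subgroup G) ≤ center G :=
    ⟨R₀, fun hle => hz₀.2.2 (hle hz₀R)⟩
  obtain ⟨z₁, hz₁R, hz₁, hz₁t, hz₁c, -, hA₁, hd₁⟩ := K.toAC.exists_normalised hts R₁ hR₁
  obtain ⟨g, hg⟩ := K.conj_all hz₁ hh
  -- move everything by `g`
  set z := g * z₁ * g⁻¹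
  have hzR : z ∈ ((g • R₁ : Sylow t G) : Subgroup G) := by
    rw [Sylow.coe_subgroup_smul]
    exact Subgroup.mem_map_of_mem (MulAut.conj g).toMonoidHom hz₁R
  have hz : IsGood s t z := hz₁.conj g
  have hzt : z ^ t ∈ center G := by
    rw [conj_pow]
    exact Subgroup.Normal.conj_mem inferInstance _ hz₁t g
  have hcm : ((g • R₁ : Sylow t G) : Subgroup G) ≤ centMod z := by
    rw [Sylow.coe_subgroup_smul]
    rintro _ ⟨a, ha, rfl⟩
    obtain ⟨c, hc, hca⟩ := hz₁c a ha
    refine mem_centMod.mpr ⟨g * c * g⁻¹, Subgroup.Normal.conj_mem inferInstance _ hc g, ?_⟩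
    show g * a * g⁻¹ * (g * z₁ * g⁻¹) * (g * a * g⁻¹)⁻¹ = _
    calc g * a * g⁻¹ * (g * z₁ * g⁻¹) * (g * a * g⁻¹)⁻¹ = g * (a * z₁ * a⁻¹) * g⁻¹ := by group
      _ = _ := by rw [hca]; simp only [z]; group
  have hle : rPart z t ≤ ((g • R₁ : Sylow t G) : Subgroup G) :=
    le_sylow_of_normalised _ (isPGroup_rPart z) fun u hu a ha =>
      conj_mem_rPart (centMod_le_normalizer z (hcm hu)) ha
  refine ⟨g • R₁, z, hzR, hz, hzt, hcm, hg.symm, hle, ?_⟩
  have hrel : (rPart z t).relIndex ((g • R₁ : Sylow t G) : Subgroup G) ∣ t :=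
    K.toAC.relIndex_dvd hz hts (g • R₁).isPGroup' (hcm.trans (centMod_le_normalizer z))
      fun x hx => pow_mem_cent_of_mem_centMod hzt (hcm hx)
  refine ((Nat.dvd_prime ht.out).mp hrel).resolve_left fun h1 => ?_
  exact not_dvd_index_iff.mpr ⟨g • R₁,
    ((relIndex_eq_one.mp h1).trans (Sizes.rPart_le_cent z)).trans hg.ge⟩ hd

theorem not_dvd_index_normalizer (K : Config G s) {t₀ t : ℕ} [Fact t₀.Prime] [ht : Fact t.Prime]
    {h : G} (hh : IsGood s t₀ h) (hts : t ≠ s) :
    ¬ t ∣ (normalizer ((C[h] : Subgroup G) : Set G)).index := by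
  intro hd
  obtain ⟨R, z, -, -, -, hcm, hzh, -, -⟩ :=
    K.exists_rep hh hts (hd.trans (index_dvd_of_le le_normalizer))
  exact not_dvd_index_iff.mpr ⟨R, hzh ▸ hcm.trans (centMod_le_normalizer z)⟩ hd

/-- A `t`-element of `R` outside `rPart z t` has `t`-th power in the centre. -/
theorem pow_mem_center (K : Config G s) {t : ℕ} [ht : Fact t.Prime] {R : Subgroup G}
    (hR : IsPGroup t R) {z : G} (hz : IsGood s t z) (hzt : z ^ t ∈ center G)
    (hcm : R ≤ centMod z) {u : G} (hu : u ∈ R) (huA : u ∉ rPart z t) : u ^ t ∈ center G := by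
  by_contra hne
  have hut : u ^ t ∈ C[z] := pow_mem_cent_of_mem_centMod hzt (hcm hu)
  have h1 : C[u ^ t] = C[z] :=
    K.cent t t z (u ^ t) hz ⟨hz.1, isPEl_of_mem hR (R.pow_mem hu t), hne⟩ hut
  refine huA (K.toAC.mem_rPart hz hz.1 ?_ (isPEl_of_mem hR hu))
  exact h1 ▸ mem_cent_comm.mpr (Commute.pow_self u t)

/-- In a subgroup where `u` is central modulo the centre, `rPart u t` has index at most `t`. -/
theorem relIndex_centMod (K : Config G s) {t : ℕ} [ht : Fact t.Prime] {u : G} (hu : IsGood s t u)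
    (hut : u ^ t ∈ center G) {X : Subgroup G} (hX : IsPGroup t X) (hXu : X ≤ centMod u) :
    (rPart u t).relIndex X ∣ t :=
  K.toAC.relIndex_dvd hu hu.1 hX (hXu.trans (centMod_le_normalizer u))
    fun x hx => pow_mem_cent_of_mem_centMod hut (hXu hx)

/-- The part of `rPart z t` commuting with `u` modulo the centre has order `t` modulo it. -/
theorem relIndex_fixed_le (K : Config G s) {t : ℕ} [ht : Fact t.Prime] {z u : G}
    (hz : IsGood s t z) (hu : IsGood s t u) (hut : u ^ t ∈ center G) (huz : u ∉ C[z]) :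
    (center G).relIndex (rPart z t ⊓ centMod u) ≤ t := by
  set F := rPart z t ⊓ centMod u
  have h1 : (rPart u t).relIndex F ≤ t := Nat.le_of_dvd ht.out.pos
    (K.relIndex_centMod hu hut ((isPGroup_rPart z).to_le inf_le_left) inf_le_right)
  have hinf : rPart u t ⊓ F ≤ center G ⊓ F := le_inf (fun v hv => by
    by_contra hvZ
    refine huz ?_
    rw [K.toAC.eq_of_common hz hu (v := v) ⟨hu.1, isPEl_of_mem (isPGroup_rPart u) hv.1, hvZ⟩
      (Sizes.rPart_le_cent z hv.2.1) (Sizes.rPart_le_cent u hv.1)]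
    exact mem_cent.mpr rfl) inf_le_right
  have key : ∀ X : Subgroup G, Nat.card (X ⊓ F : Subgroup G) * X.relIndex F = Nat.card F :=
    fun X => by
    rw [← inf_relIndex_right X F, ← relIndex_bot_left,
      relIndex_mul_relIndex _ _ _ bot_le inf_le_right, relIndex_bot_left]
  refine Nat.le_of_mul_le_mul_left ?_ (Nat.card_pos (α := (center G ⊓ F : Subgroup G)))
  rw [key, ← key (rPart u t)]
  exact Nat.mul_le_mul (card_le_of_le hinf) h1

/-- A good element lies in its own part. -/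
theorem mem_rPart_self (K : Config G s) {t : ℕ} [Fact t.Prime] {z : G} (hz : IsGood s t z) :
    z ∈ rPart z t :=
  K.toAC.mem_rPart hz hz.1 (mem_cent.mpr rfl) hz.2.1

theorem not_rPart_le_center (K : Config G s) {t₀ t : ℕ} [Fact t₀.Prime] [Fact t.Prime] {h : G}
    (hh : IsGood s t₀ h) (hts : t ≠ s) (hd : t ∣ (C[h]).index) : ¬ rPart h t ≤ center G := by
  obtain ⟨R, z, -, hz, -, -, hzh, -, -⟩ := K.exists_rep hh hts hd
  exact fun hle => hz.2.2 (hle (K.toAC.mem_rPart hh hts (hzh ▸ mem_cent.mpr rfl) hz.2.1))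

/-- If `2 ≠ s` divides the index, an element of order two modulo the centre is central modulo the
centre in the normaliser, which has all squares in the centraliser. -/
theorem two_step (K : Config G s) {t₀ : ℕ} [Fact t₀.Prime] {h : G} (hh : IsGood s t₀ h)
    (h2s : 2 ≠ s) (hd : 2 ∣ (C[h]).index) :
    ∃ z : G, IsGood s 2 z ∧ z ^ 2 ∈ center G ∧ C[z] = C[h] ∧
      (∃ u ∈ centMod z, u ∉ C[h]) ∧
      normalizer ((C[h] : Subgroup G) : Set G) ≤ centMod z ∧
      ∀ v ∈ normalizer ((C[h] : Subgroup G) : Set G), v ^ 2 ∈ C[h] := by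
  haveI : Fact (Nat.Prime 2) := ⟨Nat.prime_two⟩
  obtain ⟨R, z, hzR, hz, hzt, hcm, hzh, hAR, hrel⟩ := K.exists_rep hh h2s hd
  set A := rPart z 2
  obtain ⟨u, huR, huA⟩ : ∃ u ∈ (R : Subgroup G), u ∉ A := by
    by_contra hall
    push Not at hall
    have h1 := relIndex_eq_one.mpr (show (R : Subgroup G) ≤ A from fun v hv => hall v hv)
    omega
  have huC : u ∉ C[z] := fun huz =>
    huA (K.toAC.mem_rPart hz h2s huz (isPEl_of_mem R.isPGroup' huR))
  have huZ : u ∉ center G := fun hc => huC (center_le_centralizer _ hc)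
  have hu : IsGood s 2 u := ⟨h2s, isPEl_of_mem R.isPGroup' huR, huZ⟩
  have hu2 := K.pow_mem_center R.isPGroup' hz hzt hcm huR huA
  -- every element of order two modulo the centre is fixed by `u`
  have hfix : ∀ x ∈ A, x ^ 2 ∈ center G → x ∈ centMod u := by
    intro x hx hx2
    have h3 := K.pow_mem_center R.isPGroup' hz hzt hcm (u := u * x)
      (mul_mem huR (hAR hx)) (fun hux => huA ((Subgroup.mul_mem_cancel_right A hx).mp hux))
    refine mem_centMod.mpr ⟨(u ^ 2)⁻¹ * (u * x) ^ 2 * (x ^ 2)⁻¹,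
      mul_mem (mul_mem (inv_mem hu2) h3) (inv_mem hx2), ?_⟩
    simp only [pow_two]
    group
  set F := A ⊓ centMod u with hF
  have hzF : z ∈ F := ⟨K.mem_rPart_self hz, hfix z (K.mem_rPart_self hz) hzt⟩
  have hidx : ((center G).subgroupOf F).index = 2 := by
    have h1 : (center G).relIndex F ≤ 2 := K.relIndex_fixed_le hz hu hu2 huC
    have h2 : (center G).relIndex F ≠ 1 := fun h1 => hz.2.2 (relIndex_eq_one.mp h1 hzF)
    have h3 : 0 < (center G).relIndex F := relIndex_pos' _ _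
    show (center G).relIndex F = 2
    omega
  have hnorm : normalizer ((C[h] : Subgroup G) : Set G) ≤ centMod z := by
    intro v hv
    rw [← hzh] at hv
    have h1 : v * z * v⁻¹ ∈ A := conj_mem_rPart hv (K.mem_rPart_self hz)
    have h2 : (v * z * v⁻¹) ^ 2 ∈ center G := by
      rw [conj_pow]
      exact Subgroup.Normal.conj_mem inferInstance _ hzt v
    have h3 : v * z * v⁻¹ ∈ F := ⟨h1, hfix _ h1 h2⟩
    have h4 : z⁻¹ * (v * z * v⁻¹) ∈ center G := by
      have h5 := mul_mem_iff_of_index_two hidx (a := (⟨z, hzF⟩ : F)⁻¹)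
        (b := ⟨v * z * v⁻¹, h3⟩)
      simp only [mem_subgroupOf, Subgroup.coe_mul, Subgroup.coe_inv, inv_mem_iff] at h5
      exact h5.mpr (iff_of_false hz.2.2 (not_center_conj hz.2.2 v))
    exact mem_centMod.mpr ⟨_, h4, by group⟩
  exact ⟨z, hz, hzt, hzh, ⟨u, hcm huR, hzh ▸ huC⟩, hnorm,
    fun v hv => hzh ▸ pow_mem_cent_of_mem_centMod hzt (hnorm hv)⟩

/-- If `2 ≠ s` divides the index, no other prime but `s` does. -/
theorem eq_two_of_dvd (K : Config G s) {t₀ t : ℕ} [Fact t₀.Prime] [ht : Fact t.Prime] {h : G}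
    (hh : IsGood s t₀ h) (h2s : 2 ≠ s) (h2 : 2 ∣ (C[h]).index) (hts : t ≠ s)
    (hd : t ∣ (C[h]).index) : t = 2 := by
  by_contra ht2
  obtain ⟨z, -, -, -, -, -, hsq⟩ := K.two_step hh h2s h2
  obtain ⟨u, -, huN, huC, hut⟩ :=
    K.toAC.exists_normalizer_not_mem hh hts hd (K.not_rPart_le_center hh hts hd)
  obtain ⟨k, hk⟩ := ht.out.odd_of_ne_two ht2
  apply huC
  have h1 : (u ^ 2) ^ k ∈ C[h] := pow_mem (hsq u huN) k
  rwa [hk, pow_succ, pow_mul, Subgroup.mul_mem_cancel_left _ h1] at hut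

end Config

end H27.Three
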