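import Cfsg.Agent.H27.ThreeSizes.Incl

/-!
Two class sizes of noncentral elements, all centralisers composite modulo the centre and without
proper inclusions: counting forces two abelian subgroups of coprime index.
-/

set_option autoImplicit false
set_option linter.style.haveILetI false
set_option linter.unusedSectionVars false

namespace H27.Three

open Subgroup H27.CMN
open H36 (IsPEl isPEl_of_mem)

local notation "C[" x "]" => Subgroup.centralizer (Singleton.singleton x : Set _)

universe u

variable {G : Type u} [Group G] [Finite G]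

theorem card_range_cent_conj (h : G) :
    Nat.card (Set.range fun g : G => C[g * h * g⁻¹]) =
      (normalizer ((C[h] : Subgroup G) : Set G)).index := by
  set H := normalizer ((C[h] : Subgroup G) : Set G)
  set f := fun g : G => C[g * h * g⁻¹]
  have hiff : ∀ a b, f a = f b ↔ a⁻¹ * b ∈ H := by
    intro a b
    show C[a * h * a⁻¹] = C[b * h * b⁻¹] ↔ _
    constructor
    · intro he
      refine mem_normalizer_of_cent_eq ?_
      rw [show a⁻¹ * b * h * (a⁻¹ * b)⁻¹ = a⁻¹ * (b * h * b⁻¹) * a⁻¹⁻¹ by group, cent_conj,
        ← he, ← cent_conj]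
      congr 2; group
    · intro he
      have h1 := cent_conj_of_mem_normalizer he
      rw [show b * h * b⁻¹ = a * (a⁻¹ * b * h * (a⁻¹ * b)⁻¹) * a⁻¹ by group,
        cent_conj a (a⁻¹ * b * h * (a⁻¹ * b)⁻¹), h1, ← cent_conj]
  refine (Nat.card_congr (Equiv.ofBijective (fun q => Quotient.liftOn' q
    (fun a => (⟨f a, Set.mem_range_self a⟩ : Set.range f)) (fun a b he => Subtype.ext
      ((hiff a b).mpr (QuotientGroup.leftRel_apply.mp he)))) ⟨?_, ?_⟩)).symm
  · rintro ⟨a⟩ ⟨b⟩ he
    exact QuotientGroup.eq.mpr ((hiff a b).mp (congrArg Subtype.val he))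
  · rintro ⟨_, a, rfl⟩
    exact ⟨QuotientGroup.mk a, rfl⟩

namespace NoIncl

variable {a b : ℕ}

/-- The composite case as an instance of `AC`. -/
theorem toAC (F : NoIncl G a b) (hcomp : ∀ g : G, g ∉ center G → ∀ p : ℕ, p.Prime →
    ∃ q : ℕ, q.Prime ∧ q ≠ p ∧ q ∣ (center G).relIndex C[g]) : AC G 0 where
  cent := fun _ _ _ _ h _ hh hv hvh => F.cent_eq_of_mem hh.2.2 (hcomp h hh.2.2) hvh hv.2.2
  other := fun t ht h hh => by
    obtain ⟨p, hp, hpt, hpd⟩ := hcomp h hh.2.2 t ht.out
    haveI : Fact p.Prime := ⟨hp⟩
    obtain ⟨v, hv, hvp, hvZ⟩ := (exists_pEl_not_center_iff C[h]).mpr hpd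
    exact ⟨p, ⟨hp⟩, hpt, v, hv, hp.ne_zero, hvp, hvZ⟩

theorem exists_good (F : NoIncl G a b) {g : G} (hg : g ∉ center G) :
    ∃ (t : ℕ) (_ : Fact t.Prime) (h : G), IsGood 0 t h ∧ C[g] = C[h] := by
  obtain ⟨p, hp, k, h1, h2, h3⟩ := F.exists_primary hg
  exact ⟨p, hp, g ^ k, ⟨hp.out.ne_zero, h1, h2⟩, h3⟩

/-- All centralisers of the same index are conjugate. -/
theorem conj_of_index_eq (F : NoIncl G a b) (hcomp : ∀ g : G, g ∉ center G → ∀ p : ℕ, p.Prime →
    ∃ q : ℕ, q.Prime ∧ q ≠ p ∧ q ∣ (center G).relIndex C[g]) {x y : G} (hx : x ∉ center G)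
    (hy : y ∉ center G) (he : (C[x]).index = (C[y]).index) :
    ∃ g : G, C[y] = C[g * x * g⁻¹] := by
  have A := F.toAC hcomp
  obtain ⟨t, ht, h, hh, hxh⟩ := F.exists_good hx
  obtain ⟨t', ht', h', hh', hyh⟩ := F.exists_good hy
  obtain ⟨p, hp, ⟨v, hv, hvg⟩, hbig⟩ := A.exists_big hh
  obtain ⟨g, hg⟩ := A.exists_conj hh hh' hv hvg
    (by rw [card_cent_eq_of_index_eq (by rw [← hxh, ← hyh, he] : (C[h]).index = (C[h']).index)])
    hbig
  exact ⟨g, by rw [hyh, hg, cent_conj, ← hxh, ← cent_conj]⟩

/-- Elements whose centralisers have a given index, counted by conjugate centralisers. -/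
theorem card_index_eq [Fintype G] [DecidableEq G] (F : NoIncl G a b)
    (hcomp : ∀ g : G, g ∉ center G → ∀ p : ℕ, p.Prime →
      ∃ q : ℕ, q.Prime ∧ q ≠ p ∧ q ∣ (center G).relIndex C[g]) {x : G} (hx : x ∉ center G)
    [DecidablePred fun y => y ∉ center G ∧ (C[y]).index = (C[x]).index] :
    (Finset.univ.filter fun y => y ∉ center G ∧ (C[y]).index = (C[x]).index).card +
      (normalizer ((C[x] : Subgroup G) : Set G)).index * Nat.card (center G) =
      (normalizer ((C[x] : Subgroup G) : Set G)).index * Nat.card C[x] := by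
  classical
  set S := Finset.univ.filter fun y => y ∉ center G ∧ (C[y]).index = (C[x]).index
  have himg : ((S.image fun y => C[y]) : Set (Subgroup G)) = Set.range fun g => C[g * x * g⁻¹] := by
    ext X
    simp only [S, Finset.coe_image, Finset.coe_filter, Finset.mem_univ, true_and, Set.mem_image,
      Set.mem_setOf_eq, Set.mem_range]
    constructor
    · rintro ⟨y, ⟨hy, he⟩, rfl⟩
      obtain ⟨g, hg⟩ := F.conj_of_index_eq hcomp hx hy he.symm
      exact ⟨g, hg.symm⟩
    · rintro ⟨g, rfl⟩
      exact ⟨_, ⟨not_center_conj hx g, index_cent_conj g x⟩, rfl⟩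
  have hc : (S.image fun y => C[y]).card = (normalizer ((C[x] : Subgroup G) : Set G)).index := by
    rw [← card_range_cent_conj x, ← himg, Nat.card_coe_set_eq, Set.ncard_coe_finset]
  have hfib : ∀ X ∈ S.image (fun y => C[y]),
      (S.filter fun y => C[y] = X).card + Nat.card (center G) = Nat.card C[x] := by
    intro X hX
    obtain ⟨y, hy, rfl⟩ := Finset.mem_image.mp hX
    simp only [S, Finset.mem_filter, Finset.mem_univ, true_and] at hy
    rw [← card_cent_eq_of_index_eq hy.2, Nat.card_eq_fintype_card, Fintype.card_subtype,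
      Nat.card_eq_fintype_card, Fintype.card_subtype, ← Finset.card_union_of_disjoint]
    · congr 1
      ext w
      simp only [S, Finset.mem_union, Finset.mem_filter, Finset.mem_univ, true_and]
      constructor
      · rintro (⟨⟨-, -⟩, he⟩ | hw)
        · exact he ▸ mem_cent.mpr rfl
        · exact center_le_centralizer _ hw
      · intro hw
        by_cases hwZ : w ∈ center G
        · exact Or.inr hwZ
        · have he := F.cent_eq_of_mem hy.1 (hcomp y hy.1) hw hwZ
          exact Or.inl ⟨⟨hwZ, he ▸ hy.2⟩, he⟩
    · rw [Finset.disjoint_left]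
      intro w h1 h2
      simp only [S, Finset.mem_filter, Finset.mem_univ, true_and] at h1 h2
      exact h1.1.1 h2
  rw [Finset.card_eq_sum_card_image (fun y => C[y]) S, ← hc, ← smul_eq_mul, ← Finset.sum_const,
    ← Finset.sum_add_distrib, Finset.sum_congr rfl hfib, Finset.sum_const, smul_eq_mul]

/-- The class equation for centralisers. -/
theorem count (F : NoIncl G a b) (hcomp : ∀ g : G, g ∉ center G → ∀ p : ℕ, p.Prime →
    ∃ q : ℕ, q.Prime ∧ q ≠ p ∧ q ∣ (center G).relIndex C[g]) {x y : G} (hx : x ∉ center G)
    (hy : y ∉ center G) (hne : (C[x]).index ≠ (C[y]).index) :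
    (center G).index + (normalizer ((C[x] : Subgroup G) : Set G)).index +
        (normalizer ((C[y] : Subgroup G) : Set G)).index =
      (normalizer ((C[x] : Subgroup G) : Set G)).index * (center G).relIndex C[x] +
        (normalizer ((C[y] : Subgroup G) : Set G)).index * (center G).relIndex C[y] + 1 := by
  classical
  haveI := Fintype.ofFinite G
  have h1 := F.card_index_eq hcomp hx
  have h2 := F.card_index_eq hcomp hy
  have h3 : (Finset.univ.filter fun w => w ∉ center G ∧ (C[w]).index = (C[x]).index).card +
      (Finset.univ.filter fun w => w ∉ center G ∧ (C[w]).index = (C[y]).index).card +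
      Nat.card (center G) = Nat.card G := by
    rw [Nat.card_eq_fintype_card, Fintype.card_subtype, Nat.card_eq_fintype_card,
      ← Finset.card_univ, ← Finset.card_union_of_disjoint, ← Finset.card_union_of_disjoint]
    · congr 1
      ext w
      simp only [Finset.mem_union, Finset.mem_filter, Finset.mem_univ, true_and, iff_true]
      by_cases hw : w ∈ center G
      · exact Or.inr hw
      · rcases F.sizes w hw with h | h <;> rcases F.sizes x hx with h' | h' <;>
          rcases F.sizes y hy with h'' | h'' <;> simp_all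
    · rw [Finset.disjoint_left]
      intro w h1 h2
      simp only [Finset.mem_union, Finset.mem_filter, Finset.mem_univ, true_and] at h1 h2
      exact h1.elim (fun h => h.1 h2) (fun h => h.1 h2)
    · rw [Finset.disjoint_left]
      intro w h1 h2
      simp only [Finset.mem_filter, Finset.mem_univ, true_and] at h1 h2
      exact hne (h1.2.symm.trans h2.2)
  have hZ : 0 < Nat.card (center G) := Nat.card_pos
  have e : ∀ g : G, Nat.card C[g] = Nat.card (center G) * (center G).relIndex C[g] := fun g => by
    rw [← relIndex_bot_left, ← relIndex_bot_left (center G),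
      relIndex_mul_relIndex _ _ _ bot_le (center_le_centralizer _)]
  rw [e] at h1 h2
  rw [← card_mul_index (center G)] at h3
  refine Nat.eq_of_mul_eq_mul_left hZ ?_
  linarith [h1, h2, h3]

/-- A second value of the class size occurs. -/
theorem exists_other_index (F : NoIncl G a b) (hcomp : ∀ g : G, g ∉ center G → ∀ p : ℕ, p.Prime →
    ∃ q : ℕ, q.Prime ∧ q ≠ p ∧ q ∣ (center G).relIndex C[g]) {x : G} (hx : x ∉ center G) :
    ∃ y : G, y ∉ center G ∧ (C[x]).index ≠ (C[y]).index := by
  classical
  haveI := Fintype.ofFinite G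
  by_contra hall
  push Not at hall
  have h1 := F.card_index_eq hcomp hx
  have h3 : (Finset.univ.filter fun w => w ∉ center G ∧ (C[w]).index = (C[x]).index).card +
      Nat.card (center G) = Nat.card G := by
    rw [Nat.card_eq_fintype_card, Fintype.card_subtype, Nat.card_eq_fintype_card,
      ← Finset.card_univ, ← Finset.card_union_of_disjoint]
    · congr 1
      ext w
      simp only [Finset.mem_union, Finset.mem_filter, Finset.mem_univ, true_and, iff_true]
      by_cases hw : w ∈ center G
      · exact Or.inr hw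
      · exact Or.inl ⟨hw, (hall w hw).symm⟩
    · rw [Finset.disjoint_left]
      intro w h1 h2
      simp only [Finset.mem_filter, Finset.mem_univ, true_and] at h1 h2
      exact h1.1 h2
  set N := normalizer ((C[x] : Subgroup G) : Set G)
  have h4 := (C[x]).card_mul_index
  have h5 := card_mul_index (center G)
  have h6 := relIndex_center_mul_index x
  have h7 : 1 < (C[x]).index := one_lt_index_cent hx
  have h8 := relIndex_mul_index (show C[x] ≤ N from le_normalizer)
  have h9 : 1 < (center G).relIndex C[x] := by
    rw [Nat.one_lt_iff_ne_zero_and_ne_one]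
    exact ⟨(relIndex_pos' _ _).ne', fun h => hx (relIndex_eq_one.mp h (mem_cent.mpr rfl))⟩
  have h10 : Nat.card C[x] = Nat.card (center G) * (center G).relIndex C[x] := by
    rw [← relIndex_bot_left, ← relIndex_bot_left (center G),
      relIndex_mul_relIndex _ _ _ bot_le (center_le_centralizer _)]
  have hZ : 0 < Nat.card (center G) := Nat.card_pos
  set e := (C[x]).relIndex N
  set j := N.index
  set c := (center G).relIndex C[x]
  have h11 : c * (e * j) + j = j * c + 1 := by
    refine Nat.eq_of_mul_eq_mul_left hZ ?_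
    rw [h10] at h1 h4
    rw [← h8] at h4
    linarith [h1, h3, h4]
  have h12 : 0 < e := relIndex_pos' _ _
  have h13 : 0 < j := Nat.pos_of_ne_zero index_ne_zero_of_finite
  rcases Nat.lt_or_ge 1 e with h14 | h14
  · have h15 : c * (2 * j) ≤ c * (e * j) := Nat.mul_le_mul_left c (Nat.mul_le_mul_right j h14)
    have h16 : 2 * j ≤ c * j := Nat.mul_le_mul_right j h9
    nlinarith [h11, h15, h16, h13]
  · have he1 : e = 1 := by omega
    rw [he1, one_mul, mul_comm c j] at h11
    have hj : j = 1 := by omega
    rw [he1, hj, one_mul] at h8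
    exact h7.ne h8

end NoIncl

end H27.Three
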