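import Cfsg.Agent.H27.ThreeSizes.Lines
import Cfsg.Agent.H4.KegelWielandt
import Cfsg.Agent.H1.Wielandt
import Cfsg.Agent.H33.TwoPrime

/-!
Two class sizes of noncentral elements without proper inclusions between their centralisers: the
case where one of the centralisers has prime power order modulo the centre.
-/

set_option autoImplicit false
set_option linter.style.haveILetI false
set_option linter.unusedSectionVars false

namespace H27.Three

open Subgroup H27.CMN
open H36 (IsPEl isPEl_of_mem)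

local notation "C[" x "]" => Subgroup.centralizer (Singleton.singleton x : Set _)
local notation "π" => QuotientGroup.mk' (Subgroup.center _)

universe u

/-- Noncentral class sizes `a` and `b`, and no proper inclusion between centralisers of noncentral
elements. -/
structure NoIncl (G : Type u) [Group G] (a b : ℕ) : Prop where
  sizes : ∀ x : G, x ∉ center G → (Subgroup.centralizer ({x} : Set G)).index = a ∨
    (Subgroup.centralizer ({x} : Set G)).index = b
  incl : ∀ x y : G, x ∉ center G → y ∉ center G →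
    Subgroup.centralizer ({x} : Set G) ≤ Subgroup.centralizer ({y} : Set G) →
    Subgroup.centralizer ({x} : Set G) = Subgroup.centralizer ({y} : Set G)

variable {G : Type u} [Group G] [Finite G]

theorem relIndex_center_mul_index (x : G) :
    (center G).relIndex C[x] * (C[x]).index = (center G).index :=
  relIndex_mul_index (center_le_centralizer _)

theorem relIndex_center_eq_of_index_eq {x y : G} (h : (C[x]).index = (C[y]).index) :
    (center G).relIndex C[x] = (center G).relIndex C[y] := by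
  have h1 := relIndex_center_mul_index x
  rw [← relIndex_center_mul_index y, h] at h1
  exact Nat.eq_of_mul_eq_mul_right (Nat.pos_of_ne_zero index_ne_zero_of_finite) h1

theorem card_cent_eq_of_index_eq {x y : G} (h : (C[x]).index = (C[y]).index) :
    Nat.card C[x] = Nat.card C[y] := by
  have h1 := card_cent_mul_index x
  rw [← card_cent_mul_index y, h] at h1
  exact Nat.eq_of_mul_eq_mul_right (Nat.pos_of_ne_zero index_ne_zero_of_finite) h1

theorem relIndex_dvd_of_le (A : Subgroup G) [A.Normal] {M L : Subgroup G} (hML : M ≤ L) :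
    A.relIndex M ∣ A.relIndex L := by
  have key : ∀ K : Subgroup G, A.relIndex K = Nat.card (K.map (QuotientGroup.mk' A)) := fun K => by
    rw [← Subgroup.relIndex_ker, QuotientGroup.ker_mk']
  rw [key, key]
  exact Subgroup.card_dvd_of_le (Subgroup.map_mono hML)

/-- A group with at most two primes in the index of the centre is solvable. -/
theorem isSolvable_of_index_center (p q : ℕ) (hp : p.Prime) (hq : q.Prime)
    (h : ∀ r : ℕ, r.Prime → r ∣ (center G).index → r = p ∨ r = q) : Group.IsSolvable G := by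
  haveI : Group.IsSolvable (center G) :=
    Group.isSolvable_of_comm fun a b => Subtype.ext (mem_center_iff.mp b.2 a)
  haveI : Group.IsSolvable (G ⧸ center G) :=
    H33.isSolvable_of_two_primes hp hq fun r hr hd => h r hr hd
  exact Group.isSolvable_of_ker_le_range (center G).subtype (QuotientGroup.mk' (center G))
    (by rw [QuotientGroup.ker_mk', range_subtype])

/-- A prime of the index of the centre gives a noncentral element of that prime power order. -/
theorem exists_pEl_of_dvd_index_center {r : ℕ} [Fact r.Prime] (h : r ∣ (center G).index) :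
    ∃ g : G, IsPEl r g ∧ g ∉ center G ∧ r ∣ (center G).relIndex C[g] := by
  obtain ⟨g, -, hg, hgZ⟩ := (exists_pEl_not_center_iff (r := r) (⊤ : Subgroup G)).mpr
    (by rwa [relIndex_top_right])
  exact ⟨g, hg, hgZ, (exists_pEl_not_center_iff _).mp ⟨g, mem_cent.mpr rfl, hg, hgZ⟩⟩

/-- Three distinct primes in the index of the centre, unless the group is solvable. -/
theorem exists_third_prime (hns : ¬ Group.IsSolvable G) (p q : ℕ) :
    ∃ (r : ℕ) (_ : Fact r.Prime), r ≠ p ∧ r ≠ q ∧ r ∣ (center G).index := by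
  by_contra hcon
  push Not at hcon
  have h : ∀ r : ℕ, r.Prime → r ∣ (center G).index → r = p ∨ r = q := fun r hr hd => by
    by_contra h'
    push Not at h'
    exact hcon r ⟨hr⟩ h'.1 h'.2 hd
  -- replace `p` and `q` by primes
  obtain ⟨p', hp', hpp⟩ : ∃ p', p'.Prime ∧ (p.Prime → p' = p) := by
    by_cases hp : p.Prime
    · exact ⟨p, hp, fun _ => rfl⟩
    · exact ⟨2, Nat.prime_two, fun h => absurd h hp⟩
  obtain ⟨q', hq', hqq⟩ : ∃ q', q'.Prime ∧ (q.Prime → q' = q) := by
    by_cases hq : q.Prime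
    · exact ⟨q, hq, fun _ => rfl⟩
    · exact ⟨2, Nat.prime_two, fun h => absurd h hq⟩
  refine hns (isSolvable_of_index_center p' q' hp' hq' fun r hr hd => ?_)
  rcases h r hr hd with rfl | rfl
  · exact Or.inl (hpp hr).symm
  · exact Or.inr (hqq hr).symm

namespace NoIncl

variable {a b : ℕ}

theorem cent_eq_of_coprime (F : NoIncl G a b) {x w : G} (hx : x ∉ center G) (hw : w ∉ center G)
    (hc : Commute x w) (hcop : (orderOf x).Coprime (orderOf w)) : C[x] = C[w] := by
  have h := cent_mul_eq hc hcop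
  have hxw : x * w ∉ center G := fun hZ => hx (by
    rw [← cent_eq_top_iff] at hZ ⊢
    rw [h] at hZ
    exact (inf_eq_top_iff.mp hZ).1)
  rw [← F.incl _ x hxw hx (h ▸ inf_le_left), F.incl _ w hxw hw (h ▸ inf_le_right)]

theorem exists_primary (F : NoIncl G a b) {g : G} (hg : g ∉ center G) :
    ∃ (p : ℕ) (_ : Fact p.Prime) (k : ℕ), IsPEl p (g ^ k) ∧ g ^ k ∉ center G ∧
      C[g] = C[g ^ k] := by
  obtain ⟨p, hp, k, h1, h2⟩ := H36.exists_primary_not_mem (center G) hg
  exact ⟨p, hp, k, h1, h2, F.incl _ _ hg h2 (cent_le_cent_pow g k)⟩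

/-- In a centraliser of composite order modulo the centre all centralisers coincide. -/
theorem cent_eq_of_mem (F : NoIncl G a b) {x v : G} (hx : x ∉ center G)
    (hcomp : ∀ p : ℕ, p.Prime → ∃ q : ℕ, q.Prime ∧ q ≠ p ∧ q ∣ (center G).relIndex C[x])
    (hv : v ∈ C[x]) (hvZ : v ∉ center G) : C[v] = C[x] := by
  obtain ⟨p, hp, k, hxk, hxkZ, hxe⟩ := F.exists_primary hx
  obtain ⟨q, hq, hqp, hqd⟩ := hcomp p hp.out
  haveI : Fact q.Prime := ⟨hq⟩
  obtain ⟨w, hw, hwp, hwZ⟩ := (exists_pEl_not_center_iff C[x]).mpr hqd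
  have hwx : C[w] = C[x ^ k] := by
    refine F.cent_eq_of_coprime hwZ hxkZ ?_ ?_
    · exact mem_cent_comm.mp (mem_cent_symm.mp (hxe ▸ hw))
    · obtain ⟨i, hi⟩ := hxk
      exact hi ▸ (pEl_coprime hwp ((Nat.coprime_primes hp.out hq).mpr hqp.symm)).pow_right i
  obtain ⟨r, hr, l, hvl, hvlZ, hve⟩ := F.exists_primary hvZ
  rw [hve, hxe]
  by_cases hrp : r = p
  · have h1 : v ^ l ∈ C[w] := by rw [hwx, ← hxe]; exact pow_mem hv l
    rw [← hwx]
    refine F.cent_eq_of_coprime hvlZ hwZ (mem_cent_comm.mp h1).symm ?_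
    obtain ⟨i, hi⟩ := hwp
    exact hi ▸ (pEl_coprime hvl ((Nat.coprime_primes hq hr.out).mpr
      (hrp ▸ hqp))).pow_right i
  · have h1 : v ^ l ∈ C[x ^ k] := hxe ▸ pow_mem hv l
    refine F.cent_eq_of_coprime hvlZ hxkZ (mem_cent_comm.mp h1).symm ?_
    obtain ⟨i, hi⟩ := hxk
    exact hi ▸ (pEl_coprime hvl ((Nat.coprime_primes hp.out hr.out).mpr
      (Ne.symm hrp))).pow_right i

theorem composite_of_two {x : G} {q₁ q₂ : ℕ} (h₁ : q₁.Prime) (h₂ : q₂.Prime) (hne : q₁ ≠ q₂)
    (d₁ : q₁ ∣ (center G).relIndex C[x]) (d₂ : q₂ ∣ (center G).relIndex C[x]) (p : ℕ) :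
    ∃ q : ℕ, q.Prime ∧ q ≠ p ∧ q ∣ (center G).relIndex C[x] := by
  by_cases h : q₁ = p
  · exact ⟨q₂, h₂, fun h' => hne (h.trans h'.symm), d₂⟩
  · exact ⟨q₁, h₁, h, d₁⟩

/-- One centraliser has prime power order modulo the centre. -/
theorem solvable_of_prime_power (F : NoIncl G a b) {s : ℕ} [hs : Fact s.Prime] {g : G}
    (hg : g ∉ center G)
    (hsg : ∀ q : ℕ, q.Prime → q ∣ (center G).relIndex C[g] → q = s) : Group.IsSolvable G := by
  by_contra hns
  have hidx : ∀ x : G, x ∉ center G → (C[x]).index ≠ (C[g]).index →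
      ∀ y : G, y ∉ center G → (C[y]).index ≠ (C[g]).index → (C[x]).index = (C[y]).index := by
    intro x hx hxg y hy hyg
    rcases F.sizes x hx with h1 | h1 <;> rcases F.sizes y hy with h2 | h2 <;>
      rcases F.sizes g hg with h3 | h3 <;> simp_all
  have hne : ∀ (t : ℕ) [Fact t.Prime] (h : G), IsGood s t h → (C[h]).index ≠ (C[g]).index := by
    intro t ht h hh he
    exact hh.1 (hsg t ht.out (relIndex_center_eq_of_index_eq he ▸
      (exists_pEl_not_center_iff _).mp ⟨h, mem_cent.mpr rfl, hh.2.1, hh.2.2⟩))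
  have hprime : ∀ (r : ℕ) [Fact r.Prime], r ≠ s → r ∣ (center G).index →
      ∀ (t : ℕ) [Fact t.Prime] (h : G), IsGood s t h → r ∣ (center G).relIndex C[h] := by
    intro r hr hrs hrd t ht h hh
    obtain ⟨v, hv, hvZ, hvd⟩ := exists_pEl_of_dvd_index_center hrd
    rw [relIndex_center_eq_of_index_eq (hidx h hh.2.2 (hne t h hh) v hvZ
      (hne r v ⟨hrs, hv, hvZ⟩))]
    exact hvd
  obtain ⟨r₁, hr₁, h1s, -, h1d⟩ := exists_third_prime hns s s
  obtain ⟨r₂, hr₂, h2s, h21, h2d⟩ := exists_third_prime hns s r₁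
  have hcomp : ∀ (t : ℕ) [Fact t.Prime] (h : G), IsGood s t h → ∀ p : ℕ, p.Prime →
      ∃ q : ℕ, q.Prime ∧ q ≠ p ∧ q ∣ (center G).relIndex C[h] := fun t _ h hh p _ =>
    composite_of_two hr₁.out hr₂.out h21.symm (hprime r₁ h1s h1d t h hh)
      (hprime r₂ h2s h2d t h hh) p
  have K : Config G s :=
    { cent := fun t p _ _ h v hh hv hvh => F.cent_eq_of_mem hh.2.2 (hcomp t h hh) hvh hv.2.2
      other := fun t _ h hh => by
        obtain ⟨p, hp, hpt, hps, hpd⟩ : ∃ p : ℕ, Fact p.Prime ∧ p ≠ t ∧ p ≠ s ∧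
            p ∣ (center G).relIndex C[h] := by
          by_cases h1t : r₁ = t
          · exact ⟨r₂, hr₂, h1t ▸ h21, h2s, hprime r₂ h2s h2d t h hh⟩
          · exact ⟨r₁, hr₁, h1t, h1s, hprime r₁ h1s h1d t h hh⟩
        haveI := hp
        obtain ⟨v, hv, hvp, hvZ⟩ := (exists_pEl_not_center_iff C[h]).mpr hpd
        exact ⟨p, hp, hpt, v, hv, hps, hvp, hvZ⟩
      card_eq := fun t t' p _ _ _ h h' _ hh hh' => by
        rw [card_cent_eq_of_index_eq (hidx h hh.2.2 (hne t h hh) h' hh'.2.2 (hne t' h' hh'))] }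
  obtain ⟨h, hh, hhZ, -⟩ := exists_pEl_of_dvd_index_center h1d
  have hg1 : IsGood s r₁ h := ⟨h1s, hh, hhZ⟩
  obtain ⟨R⟩ : Nonempty (Sylow s G) := inferInstance
  have hnil : Group.IsNilpotent C[h] := by
    refine Subgroup.nilpotent_iff_lowerCentralSeries.mpr ⟨1, ?_⟩
    rw [Subgroup.lowerCentralSeries_succ, Subgroup.lowerCentralSeries_zero,
      Subgroup.commutator_eq_bot_iff_le_centralizer]
    intro x _ y _
    by_cases hyZ : (y : G) ∈ center G
    · exact Subtype.ext (mem_center_iff.mp hyZ x).symm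
    · have hx : (x : G) ∈ C[(y : G)] :=
        (F.cent_eq_of_mem hhZ (hcomp r₁ h hg1) y.2 hyZ).symm ▸ x.2
      exact Subtype.ext (mem_cent.mp hx).symm
  refine hns (H4.isSolvable_of_nilpotent_factors C[h] (R : Subgroup G) hnil
    R.isPGroup'.isNilpotent fun x => ?_)
  refine H1.exists_mul_eq_of_coprime_index _ _ (Nat.coprime_of_dvd fun p hp h1 h2 => ?_) x
  rcases eq_or_ne p s with rfl | hps
  · exact R.not_dvd_index h2
  · haveI : Fact p.Prime := ⟨hp⟩
    exact K.not_dvd_index hg1 hps h1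

/-- All centralisers of prime power order modulo the centre: two primes. -/
theorem composite_or_solvable (F : NoIncl G a b) :
    Group.IsSolvable G ∨ ∀ g : G, g ∉ center G → ∀ p : ℕ, p.Prime →
      ∃ q : ℕ, q.Prime ∧ q ≠ p ∧ q ∣ (center G).relIndex C[g] := by
  by_contra hcon
  push Not at hcon
  obtain ⟨hns, g, hg, s, hs, hall⟩ := hcon
  haveI : Fact s.Prime := ⟨hs⟩
  exact hns (F.solvable_of_prime_power hg fun q hq hd => by
    by_contra hqs
    exact hall q hq hqs hd)

end NoIncl

end H27.Three
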