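import Cfsg.Agent.H27.ThreeSizes.TwoStep

/-!
No element of two-power order inverts a pair of independent elements of odd prime order modulo
the centre; two shears give such an element.
-/

set_option autoImplicit false
set_option linter.style.haveILetI false
set_option linter.unusedSectionVars false

namespace H27.Three

open Subgroup H27.CMN
open H36 (IsPEl isPEl_of_mem)

local notation "C[" x "]" => Subgroup.centralizer (Singleton.singleton x : Set _)
local notation "π" => QuotientGroup.mk' (Subgroup.center _)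

universe u

variable {G : Type u} [Group G] [Finite G] {s : ℕ}

theorem mem_centMod' {u v : G} : v ∈ centMod u ↔ Commute (π v : G ⧸ center G) (π u) := by
  rw [centMod, mem_comap, mem_cent]
  rfl

theorem centMod_symm {u v : G} (h : v ∈ centMod u) : u ∈ centMod v :=
  mem_centMod'.mpr (mem_centMod'.mp h).symm

theorem pi_eq_iff {a b : G} : (π a : G ⧸ center G) = π b ↔ a⁻¹ * b ∈ center G :=
  QuotientGroup.eq

theorem pi_eq_one_iff {a : G} : (π a : G ⧸ center G) = 1 ↔ a ∈ center G :=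
  QuotientGroup.eq_one_iff a

theorem mem_cent_of_pi_eq {h a b : G} (hab : (π a : G ⧸ center G) = π b) (ha : a ∈ C[h]) :
    b ∈ C[h] := by
  have := mul_mem ha (center_le_centralizer ({h} : Set G) (pi_eq_iff.mp hab))
  rwa [mul_inv_cancel_left] at this

theorem mem_zpowers_of_ne_one {Q : Type u} [Group Q] [Finite Q] {t : ℕ} [ht : Fact t.Prime]
    {x y : Q} (hx : x ^ t = 1) (hy : y ∈ zpowers x) (hy1 : y ≠ 1) : x ∈ zpowers y := by
  have hx1 : x ≠ 1 := fun h => hy1 (by simpa [h] using hy)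
  obtain ⟨k, rfl⟩ := hy
  have h2 : (x ^ k) ^ t = 1 := by
    rw [← zpow_natCast, ← zpow_mul, mul_comm, zpow_mul, zpow_natCast, hx, one_zpow]
  rw [eq_of_le_of_card_ge (zpowers_le.mpr (zpow_mem (mem_zpowers x) k))
    (by rw [Nat.card_zpowers, Nat.card_zpowers, orderOf_eq_prime hx hx1,
      orderOf_eq_prime h2 hy1])]
  exact mem_zpowers x

theorem mem_of_sq_mem_of_pow_mem {H : Subgroup G} {g : G} {t : ℕ} (ht : Odd t)
    (h2 : g ^ 2 ∈ H) (hgt : g ^ t ∈ H) : g ∈ H := by
  obtain ⟨k, hk⟩ := ht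
  rwa [hk, pow_succ, pow_mul, Subgroup.mul_mem_cancel_left _ (pow_mem h2 k)] at hgt

theorem conj_zpow_of {Q : Type u} [Group Q] {g x : Q} (h : g * x * g⁻¹ = x) (k : ℤ) :
    g * x ^ k * g⁻¹ = x ^ k := by rw [← conj_zpow, h]

namespace Config

/-- No `2`-element inverts modulo the centre two independent elements of order `t`. -/
theorem no_inverter (K : Config G s) [hs : Fact s.Prime] {t : ℕ} [ht : Fact t.Prime]
    (ht2 : t ≠ 2) {z u j : G} (hz : IsGood s t z) (hzt : z ^ t ∈ center G)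
    (hut : u ^ t ∈ center G) (huz : u ∈ centMod z) (huC : u ∉ C[z]) (hu : IsPEl t u)
    (hj : IsPEl 2 j) (hjz : (π j : G ⧸ center G) * π z * (π j)⁻¹ = (π z)⁻¹)
    (hju : (π j : G ⧸ center G) * π u * (π j)⁻¹ = (π u)⁻¹) : False := by
  haveI : Fact (Nat.Prime 2) := ⟨Nat.prime_two⟩
  have hodd : Odd t := ht.out.odd_of_ne_two ht2
  rw [← map_inv, ← map_inv, ← map_mul, ← map_mul, eq_comm, pi_eq_iff, inv_inv] at hjz
  set c := z * (j * z * j⁻¹) with hc
  have hjz' : j * z * j⁻¹ = z⁻¹ * c := by rw [hc]; group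
  have hjN : j ∈ normalizer ((C[z] : Subgroup G) : Set G) := by
    refine mem_normalizer_of_cent_eq ?_
    rw [hjz', H36.cent_mul_central hjz]
    ext w
    rw [mem_cent_comm, mem_cent_comm, Commute.inv_left_iff]
  have hjC : j ∉ C[z] := fun hjC => by
    have h1 : z ^ 2 = c := by rw [hc, mem_cent.mp hjC, mul_inv_cancel_right, pow_two]
    exact hz.2.2 (mem_of_sq_mem_of_pow_mem hodd (h1 ▸ hjz) hzt)
  have hj2 : j ^ 2 ∈ C[z] := by
    rw [mem_cent, ← mul_inv_eq_iff_eq_mul]
    calc j ^ 2 * z * (j ^ 2)⁻¹ = j * (j * z * j⁻¹) * j⁻¹ := by rw [pow_two]; group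
      _ = j * (z⁻¹ * c) * j⁻¹ := by rw [hjz']
      _ = (j * z * j⁻¹)⁻¹ * (j * c * j⁻¹) := by group
      _ = c⁻¹ * z * c := by
        rw [hjz', mem_center_iff.mp hjz j, mul_inv_cancel_right]; group
      _ = z := by rw [mul_assoc, mem_center_iff.mp hjz z, inv_mul_cancel_left]
  by_cases h2s : 2 = s
  · -- the exceptional prime is `2`
    subst h2s
    obtain ⟨p, hp, hpt, v, hv, hvg⟩ := K.toAC.exists_other hz t
    have hvW : v ∈ rPart z p := K.toAC.mem_rPart hz hvg.1 hv hvg.2.1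
    have hinv : ∀ w ∈ rPart z p, ∃ ζ ∈ center G, j * w * j⁻¹ = w⁻¹ * ζ := by
      intro w hw
      have hw' := conj_mem_rPart hjN hw
      refine ⟨w * (j * w * j⁻¹), ?_, by group⟩
      refine K.toAC.fixed_points hz hvg.1 hjC (mul_mem hw hw') ?_
      have h1 : Commute (j ^ 2) w := (mem_cent_comm.mp ((mem_centPow.mp hw).2.1 hj2)).symm
      have h2 : Commute (j * w * j⁻¹) w :=
        (mem_cent_comm.mp ((mem_centPow.mp hw).2.1 (Sizes.rPart_le_cent z hw'))).symm
      show j * (w * (j * w * j⁻¹)) = w * (j * w * j⁻¹) * j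
      calc j * (w * (j * w * j⁻¹)) = j * w * j⁻¹ * (j ^ 2 * w * (j ^ 2)⁻¹) * j := by
            rw [pow_two]; group
        _ = _ := by rw [h1.eq, mul_inv_cancel_right, h2.eq]
    obtain ⟨ζ, hζ, hζv⟩ := hinv v hvW
    have huN := centMod_le_normalizer z huz
    obtain ⟨ζ', hζ', hζw⟩ := hinv _ (conj_mem_rPart huN hvW)
    have e3 : (π j : G ⧸ center G) * π v * (π j)⁻¹ = (π v)⁻¹ := by
      rw [← map_inv, ← map_inv, ← map_mul, ← map_mul, hζv, map_mul, pi_eq_one_iff.mpr hζ, mul_one]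
    have e4 : (π j : G ⧸ center G) * π (u * v * u⁻¹) * (π j)⁻¹ = (π (u * v * u⁻¹))⁻¹ := by
      rw [← map_inv, ← map_inv, ← map_mul, ← map_mul, hζw, map_mul, pi_eq_one_iff.mpr hζ',
        mul_one]
    have e5 : (π (u ^ 2) : G ⧸ center G) * (π v)⁻¹ * (π (u ^ 2))⁻¹ = (π v)⁻¹ := by
      have e6 : (π j : G ⧸ center G) * π (u * v * u⁻¹) * (π j)⁻¹ =
          (π j * π u * (π j)⁻¹) * (π j * π v * (π j)⁻¹) * (π j * π u * (π j)⁻¹)⁻¹ := by
        simp only [map_mul, map_inv]; group
      rw [e4, hju, e3] at e6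
      simp only [map_mul, map_inv, map_pow] at e6 ⊢
      have e7 := congrArg (fun x => (π u : G ⧸ center G) * x * (π u)⁻¹) e6
      simp only [pow_two]
      simp only [mul_inv_rev, inv_inv, mul_assoc, mul_inv_cancel_left, mul_inv_cancel,
        mul_one] at e7 ⊢
      exact e7
    rw [← map_inv, ← map_inv, ← map_mul, ← map_mul, eq_comm, pi_eq_iff] at e5
    have hcm : Commute (u ^ 2) v⁻¹ := by
      obtain ⟨a, ha⟩ := H36.isPEl_pow hu 2
      obtain ⟨b, hb⟩ := hvg.2.1
      refine commute_of_comm_mod (r := orderOf (u ^ 2)) (N := orderOf v) e5 (by group) ?_ ?_ ?_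
      · rw [pow_orderOf_eq_one]; exact Commute.one_left _
      · rw [inv_pow, pow_orderOf_eq_one, inv_one]
      · rw [ha, hb]
        exact ((Nat.coprime_primes ht.out hp.out).mpr hpt.symm).pow a b
    have hu2C : u ^ 2 ∈ C[z] := by
      rw [← K.cent t p z v hz hvg hv]
      exact mem_cent_comm.mpr (Commute.inv_right_iff.mp hcm).symm
    exact huC (mem_of_sq_mem_of_pow_mem hodd hu2C (center_le_centralizer _ hut))
  · -- `2` does not divide the index
    have hno := K.not_two_dvd_index hz h2s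
    set C' := (C[z]).subgroupOf (normalizer ((C[z] : Subgroup G) : Set G)) with hC'
    haveI : C'.Normal := normal_subgroupOf_iff_le_normalizer le_normalizer |>.mpr le_rfl
    have h1 : (⟨j, hjN⟩ : normalizer ((C[z] : Subgroup G) : Set G)) ^ C'.index ∈ C' :=
      pow_index_mem C' _
    have hodd' : Odd C'.index := by
      rw [← Nat.not_even_iff_odd, even_iff_two_dvd]
      exact fun h => hno (h.trans (Dvd.intro _ (relIndex_mul_index le_normalizer)))
    exact hjC (mem_subgroupOf.mp (mem_of_sq_mem_of_pow_mem hodd' (g := (⟨j, hjN⟩ :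
      normalizer ((C[z] : Subgroup G) : Set G))) (mem_subgroupOf.mpr hj2) h1))

/-- A shear fixing `z` and moving `u` to `u * z` modulo the centre. -/
theorem exists_shear (K : Config G s) {t : ℕ} [ht : Fact t.Prime] {z u : G} (hz : IsGood s t z)
    (hu : IsGood s t u) (hzt : z ^ t ∈ center G) (hut : u ^ t ∈ center G) (huz : u ∈ centMod z)
    (huC : u ∉ C[z]) (hbig : t < (center G).relIndex (rPart z t)) :
    ∃ a : G, (π a : G ⧸ center G) * π z * (π a)⁻¹ = π z ∧
      (π a : G ⧸ center G) * π u * (π a)⁻¹ = π u * π z := by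
  classical
  set A := rPart z t
  have hzA : z ∈ A := K.mem_rPart_self hz
  set zb : G ⧸ center G := π z with hzb
  set ub : G ⧸ center G := π u with hub
  have hzb1 : zb ≠ 1 := fun h => hz.2.2 (pi_eq_one_iff.mp h)
  have hzbt : zb ^ t = 1 := by rw [hzb, ← map_pow]; exact pi_eq_one_iff.mpr hzt
  have hubt : ub ^ t = 1 := by rw [hub, ← map_pow]; exact pi_eq_one_iff.mpr hut
  have hcomm : Commute ub zb := mem_centMod'.mp huz
  have huN := centMod_le_normalizer z huz
  have hun : zpowers u ≤ normalizer (A : Set G) := zpowers_le.mpr (mem_normalizer_iff.mpr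
    fun a => ⟨fun ha => conj_mem_rPart huN ha, fun ha => by
      have := conj_mem_rPart (inv_mem huN) ha
      simpa [mul_assoc] using this⟩)
  set R := A ⊔ zpowers u
  have hRp : IsPGroup t R :=
    (isPGroup_rPart z).to_sup_of_normal_left' (H36.isPGroup_zpowers_of_isPEl hu.2.1) hun
  set Eb := zpowers ub ⊔ zpowers zb with hEb
  have hEmem : ∀ x, x ∈ Eb → ∃ k i : ℤ, x = ub ^ k * zb ^ i := by
    intro x hx
    have h1 : zpowers ub ≤ normalizer ((zpowers zb : Subgroup (G ⧸ center G)) : Set _) :=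
      zpowers_le.mpr (mem_normalizer_iff.mpr fun a => by
        constructor
        · rintro ⟨i, rfl⟩
          show ub * zb ^ i * ub⁻¹ ∈ _
          rw [(hcomm.zpow_right i).eq, mul_inv_cancel_right]
          exact zpow_mem (mem_zpowers _) _
        · rintro ⟨i, hi⟩
          refine ⟨i, ?_⟩
          have h2 : ub * zb ^ i * ub⁻¹ = ub * a * ub⁻¹ := by
            rw [(hcomm.zpow_right i).eq, mul_inv_cancel_right]; exact hi
          exact mul_left_cancel (mul_right_cancel h2))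
    have hx' : x ∈ ((zpowers ub ⊔ zpowers zb : Subgroup (G ⧸ center G)) : Set _) := hx
    rw [coe_mul_of_left_le_normalizer_right _ _ h1] at hx'
    obtain ⟨_, ⟨k, rfl⟩, _, ⟨i, rfl⟩, rfl⟩ := hx'
    exact ⟨k, i, rfl⟩
  -- `Eb` meets the image of `A` in the line of `z`
  have hEA : ∀ a ∈ A, (π a : G ⧸ center G) ∈ Eb → (π a : G ⧸ center G) ∈ zpowers zb := by
    intro a ha haE
    obtain ⟨k, i, hki⟩ := hEmem _ haE
    rcases eq_or_ne (ub ^ k) 1 with hk | hk
    · rw [hki, hk, one_mul]; exact zpow_mem (mem_zpowers _) _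
    · exfalso
      obtain ⟨m, hm⟩ := mem_zpowers_of_ne_one hubt (zpow_mem (mem_zpowers ub) k) hk
      have h3 : ub ^ k = π (a * (z ^ i)⁻¹) := by
        rw [map_mul, map_inv, map_zpow, hki, ← hzb, mul_inv_cancel_right]
      have h4 : (π ((a * (z ^ i)⁻¹) ^ m) : G ⧸ center G) = π u := by
        rw [map_zpow, ← h3]; exact hm
      exact huC (mem_cent_of_pi_eq h4 (zpow_mem (Sizes.rPart_le_cent z
        (mul_mem ha (inv_mem (zpow_mem hzA i)))) _))
  have hF : ∀ a ∈ A, a ∈ centMod u → (π a : G ⧸ center G) ∈ zpowers zb := by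
    intro a ha hau
    set F := A ⊓ centMod u
    have h1 : (π z : G ⧸ center G) ∈ F.map π :=
      Subgroup.mem_map_of_mem π ⟨hzA, centMod_symm huz⟩
    have h2 : zpowers zb = F.map π := by
      refine eq_of_le_of_card_ge (zpowers_le.mpr h1) ?_
      rw [card_map_mk, Nat.card_zpowers, orderOf_eq_prime hzbt hzb1]
      exact K.relIndex_fixed_le hz hu hut huC
    rw [h2]
    exact Subgroup.mem_map_of_mem π ⟨ha, hau⟩
  obtain ⟨a₀, ha₀, ha₀F⟩ : ∃ a ∈ A, a ∉ centMod u := by
    by_contra hall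
    push Not at hall
    have h1 : A ⊓ centMod u = A := inf_eq_left.mpr hall
    have := K.relIndex_fixed_le hz hu hut huC
    rw [h1] at this
    omega
  set Rb := R.map (QuotientGroup.mk' (center G)) with hRb
  have hER : Eb ≤ Rb := sup_le
    (zpowers_le.mpr (Subgroup.mem_map_of_mem _ (mem_sup_right (mem_zpowers u))))
    (zpowers_le.mpr (Subgroup.mem_map_of_mem _ (mem_sup_left hzA)))
  have ha₀E : (π a₀ : G ⧸ center G) ∉ Eb := fun h => ha₀F (mem_centMod'.mpr (by
    obtain ⟨i, hi⟩ := hEA a₀ ha₀ h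
    rw [← hi]
    exact (hcomm.zpow_right i).symm))
  have hne : Eb.subgroupOf Rb < ⊤ := by
    rw [lt_top_iff_ne_top, ne_eq, subgroupOf_eq_top]
    exact fun hle => ha₀E (hle (Subgroup.mem_map_of_mem _ (mem_sup_left ha₀)))
  have hnc : NormalizerCondition Rb :=
    Group.normalizerCondition_of_isNilpotent (h := (hRp.map _).isNilpotent)
  obtain ⟨⟨g, hg⟩, hgn, hgE⟩ := SetLike.exists_of_lt (hnc _ hne)
  have hgn' : ∀ x ∈ Eb, g * x * g⁻¹ ∈ Eb := fun x hx =>
    mem_subgroupOf.mp ((mem_normalizer_iff.mp hgn ⟨x, hER hx⟩).mp (mem_subgroupOf.mpr hx))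
  obtain ⟨r, hr, rfl⟩ := hg
  rw [SetLike.mem_coe, show R = zpowers u ⊔ A from sup_comm _ _] at hr
  have hr' : r ∈ ((zpowers u ⊔ A : Subgroup G) : Set G) := hr
  rw [coe_mul_of_left_le_normalizer_right _ _ hun] at hr'
  obtain ⟨_, ⟨m, rfl⟩, a, ha, rfl⟩ := hr'
  have humE : (π (u ^ m) : G ⧸ center G) ∈ Eb := by
    rw [map_zpow]; exact zpow_mem (mem_sup_left (mem_zpowers _)) _
  have haE : (π a : G ⧸ center G) ∉ Eb := fun h => hgE (mem_subgroupOf.mpr (by
    show (π (u ^ m * a) : G ⧸ center G) ∈ Eb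
    rw [map_mul]; exact mul_mem humE h))
  set y : G ⧸ center G := π a * ub * (π a)⁻¹ * ub⁻¹ with hy
  have hyE : y ∈ Eb := by
    have h1 := hgn' ub (mem_sup_left (mem_zpowers _))
    have h2 := mul_mem (mul_mem (inv_mem humE) h1) humE
    have h3 : π a * ub * (π a)⁻¹ ∈ Eb := by
      simp only [map_mul, mul_inv_rev, mul_assoc, inv_mul_cancel_left, inv_mul_cancel,
        mul_one] at h2
      simpa [mul_assoc] using h2
    exact mul_mem h3 (inv_mem (mem_sup_left (mem_zpowers _)))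
  have hyA : ∃ b ∈ A, (π b : G ⧸ center G) = y :=
    ⟨a * (u * a⁻¹ * u⁻¹), mul_mem ha (conj_mem_rPart huN (inv_mem ha)), by
      rw [hy, hub]; simp only [map_mul, map_inv]; group⟩
  obtain ⟨b, hb, hby⟩ := hyA
  have hyz : y ∈ zpowers zb := hby ▸ hEA b hb (hby ▸ hyE)
  have hy1 : y ≠ 1 := fun h => haE (by
    refine (zpowers_le.mpr (mem_sup_right (mem_zpowers zb)) : zpowers zb ≤ Eb) (hF a ha ?_)
    refine mem_centMod'.mpr ?_
    rw [hy, mul_inv_eq_one, mul_inv_eq_iff_eq_mul] at h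
    exact h)
  obtain ⟨n, hn⟩ := mem_zpowers_of_ne_one hzbt hyz hy1
  have haz : π a * zb * (π a)⁻¹ = zb := by
    rw [hzb, ← map_inv, ← map_mul, ← map_mul, mem_cent.mp (Sizes.rPart_le_cent z ha),
      mul_inv_cancel_right]
  have hyu : Commute ub y := by
    obtain ⟨i, hi⟩ := hyz
    exact hi ▸ hcomm.zpow_right i
  have hfix : π a * y * (π a)⁻¹ = y := by
    obtain ⟨i, hi⟩ := hyz
    rw [← hi]; exact conj_zpow_of haz i
  have hau : π a * ub * (π a)⁻¹ = ub * y := by rw [hyu.eq, hy, inv_mul_cancel_right]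
  refine ⟨a ^ n, ?_, ?_⟩
  · rw [map_zpow]
    have h1 : Commute (π a) zb := mul_inv_eq_iff_eq_mul.mp haz
    rw [(h1.zpow_left n).eq, mul_inv_cancel_right]
  · rw [map_zpow, ← hn]
    simp only []
    clear hn
    induction n with
    | zero => simp
    | succ k ih =>
      rw [zpow_add_one, zpow_add_one]
      calc π a ^ (k : ℤ) * π a * ub * (π a ^ (k : ℤ) * π a)⁻¹
          = π a ^ (k : ℤ) * (π a * ub * (π a)⁻¹) * (π a ^ (k : ℤ))⁻¹ := by group
        _ = (π a ^ (k : ℤ) * ub * (π a ^ (k : ℤ))⁻¹) *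
            (π a ^ (k : ℤ) * y * (π a ^ (k : ℤ))⁻¹) := by rw [hau]; group
        _ = ub * y ^ (k : ℤ) * y := by
          rw [ih, ((show Commute (π a) y from mul_inv_eq_iff_eq_mul.mp hfix).zpow_left _).eq,
            mul_inv_cancel_right]
        _ = _ := by rw [mul_assoc]
    | pred k ih =>
      rw [zpow_sub_one, zpow_sub_one]
      have hau' : (π a)⁻¹ * ub * (π a) = ub * y⁻¹ := by
        have h1 : π a * (ub * y⁻¹) * (π a)⁻¹ = ub := by
          calc π a * (ub * y⁻¹) * (π a)⁻¹ = π a * ub * (π a)⁻¹ * (π a * y * (π a)⁻¹)⁻¹ := by group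
            _ = _ := by rw [hau, hfix, mul_inv_cancel_right]
        calc (π a)⁻¹ * ub * (π a) = (π a)⁻¹ * (π a * (ub * y⁻¹) * (π a)⁻¹) * π a := by rw [h1]
          _ = _ := by group
      calc π a ^ (-(k : ℤ)) * (π a)⁻¹ * ub * (π a ^ (-(k : ℤ)) * (π a)⁻¹)⁻¹
          = π a ^ (-(k : ℤ)) * ((π a)⁻¹ * ub * π a) * (π a ^ (-(k : ℤ)))⁻¹ := by group
        _ = (π a ^ (-(k : ℤ)) * ub * (π a ^ (-(k : ℤ)))⁻¹) *
            (π a ^ (-(k : ℤ)) * y * (π a ^ (-(k : ℤ)))⁻¹)⁻¹ := by rw [hau']; group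
        _ = ub * y ^ (-(k : ℤ)) * y⁻¹ := by
          rw [ih, ((show Commute (π a) y from mul_inv_eq_iff_eq_mul.mp hfix).zpow_left _).eq,
            mul_inv_cancel_right]
        _ = _ := by rw [mul_assoc]

/-- Two shears give an inverter of two-power order. -/
theorem exists_inverter (K : Config G s) {t : ℕ} [ht : Fact t.Prime] {z u : G} (hz : IsGood s t z)
    (hu : IsGood s t u) (hzt : z ^ t ∈ center G) (hut : u ^ t ∈ center G) (huz : u ∈ centMod z)
    (huC : u ∉ C[z]) (hbig : t < (center G).relIndex (rPart z t)) :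
    ∃ j : G, IsPEl 2 j ∧ (π j : G ⧸ center G) * π z * (π j)⁻¹ = (π z)⁻¹ ∧
      (π j : G ⧸ center G) * π u * (π j)⁻¹ = (π u)⁻¹ := by
  haveI : Fact (Nat.Prime 2) := ⟨Nat.prime_two⟩
  obtain ⟨a, haz, hau⟩ := K.exists_shear hz hu hzt hut huz huC hbig
  have hbig' : t < (center G).relIndex (rPart u t) :=
    K.toAC.relIndex_rPart_eq hu hz hu.1 (K.card_eq t t t u z hu.1 hu hz) ▸ hbig
  obtain ⟨b, hbu, hbz⟩ := K.exists_shear hu hz hut hzt (centMod_symm huz)
    (fun h => huC (mem_cent_symm.mp h)) hbig'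
  set zb : G ⧸ center G := π z with hzb
  set ub : G ⧸ center G := π u with hub
  have hcomm : Commute ub zb := mem_centMod'.mp huz
  set α := MulAut.conj (π a : G ⧸ center G)
  set β := (MulAut.conj (π b : G ⧸ center G))⁻¹
  have a1 : α zb = zb := by simpa [α] using haz
  have a2 : α ub = ub * zb := by simpa [α] using hau
  have b1 : β ub = ub := by
    apply (MulAut.conj (π b : G ⧸ center G)).injective
    rw [← MulAut.mul_apply, mul_inv_cancel, MulAut.one_apply]
    simpa using hbu.symm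
  have b2 : β zb = zb * ub⁻¹ := by
    apply (MulAut.conj (π b : G ⧸ center G)).injective
    rw [← MulAut.mul_apply, mul_inv_cancel, MulAut.one_apply, map_mul, map_inv]
    have h1 : MulAut.conj (π b : G ⧸ center G) zb = zb * ub := by simpa using hbz
    have h2 : MulAut.conj (π b : G ⧸ center G) ub = ub := by simpa using hbu
    rw [h1, h2, mul_inv_cancel_right]
  have w1 : (α * β * α) ub = zb := by
    simp only [MulAut.mul_apply]
    rw [a2, map_mul, b1, b2, ← mul_assoc, hcomm.eq, mul_inv_cancel_right, a1]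
  have w2 : (α * β * α) zb = ub⁻¹ := by
    simp only [MulAut.mul_apply]
    rw [a1, b2, map_mul, map_inv, a1, a2, mul_inv_rev, mul_inv_cancel_left]
  set g := (a * b⁻¹ * a) ^ 2
  have hgconj : MulAut.conj (π g : G ⧸ center G) = (α * β * α) * (α * β * α) := by
    simp [g, α, β, pow_two, map_mul, map_inv, mul_assoc]
  have gu : MulAut.conj (π g : G ⧸ center G) ub = ub⁻¹ := by
    rw [hgconj, MulAut.mul_apply, w1, w2]
  have gz : MulAut.conj (π g : G ⧸ center G) zb = zb⁻¹ := by
    rw [hgconj, MulAut.mul_apply, w2, map_inv, w1]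
  set n := orderOf g
  have hn0 : n ≠ 0 := (orderOf_pos g).ne'
  set m := n / 2 ^ n.factorization 2
  have hm : Odd m := by
    rw [← Nat.not_even_iff_odd, even_iff_two_dvd]
    exact Nat.not_dvd_ordCompl Nat.prime_two hn0
  obtain ⟨k, hk⟩ := hm
  have hodd : ∀ x : G ⧸ center G, MulAut.conj (π g : G ⧸ center G) x = x⁻¹ →
      MulAut.conj (π (g ^ m) : G ⧸ center G) x = x⁻¹ := by
    intro x hx
    have h2 : ∀ i : ℕ, (MulAut.conj (π g : G ⧸ center G) ^ (2 * i)) x = x := by
      intro i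
      induction i with
      | zero => rfl
      | succ i ih =>
        rw [mul_add, mul_one, pow_succ, pow_succ, MulAut.mul_apply, MulAut.mul_apply, hx, map_inv,
          hx, inv_inv, ih]
    rw [map_pow, map_pow, hk, pow_succ', MulAut.mul_apply, h2, hx]
  refine ⟨g ^ m, ⟨n.factorization 2, ?_⟩, ?_, ?_⟩
  rotate_left
  · have := hodd zb gz; rwa [MulAut.conj_apply] at this
  · have := hodd ub gu; rwa [MulAut.conj_apply] at this
  rw [orderOf_pow' g (by omega), Nat.gcd_eq_right (Nat.ordCompl_dvd _ _)]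
  exact Nat.div_div_self (Nat.ordProj_dvd n 2) hn0

end Config

end H27.Three
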