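import Cfsg.Agent.H27.ThreeSizes.Inverter

/-!
An inverter when the Sylow subgroup is elementary abelian of order `t ^ 2` modulo the centre, and
the conclusion that only the exceptional prime divides the index.
-/

set_option autoImplicit false
set_option linter.style.haveILetI false
set_option linter.unusedSectionVars false

namespace H27.Three

open Subgroup H27.CMN
open H36 (IsPEl isPEl_of_mem)

local notation "C[" x "]" => Subgroup.centralizer (Singleton.singleton x : Set _)
local notation "π" => QuotientGroup.mk' (Subgroup.center _)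

universe u

variable {G : Type u} [Group G] [Finite G] {s : ℕ}

theorem card_inter_mul (X : Subgroup G) :
    Nat.card (center G ⊓ X : Subgroup G) * (center G).relIndex X = Nat.card X := by
  rw [← inf_relIndex_right (center G) X, ← relIndex_bot_left,
    relIndex_mul_relIndex _ _ _ bot_le inf_le_right, relIndex_bot_left]

namespace Config

/-- The abelian case: all lines are fused, so some `2`-element inverts. -/
theorem exists_inverter_of_small (K : Config G s) {t : ℕ} [ht : Fact t.Prime] (ht2 : t ≠ 2)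
    (R : Sylow t G) {z u : G} (hzR : z ∈ (R : Subgroup G)) (huR : u ∈ (R : Subgroup G))
    (hz : IsGood s t z) (hzt : z ^ t ∈ center G) (hcm : (R : Subgroup G) ≤ centMod z)
    (hAR : rPart z t ≤ (R : Subgroup G)) (hrel : (rPart z t).relIndex (R : Subgroup G) = t)
    (huC : u ∉ C[z]) (hsmall : (center G).relIndex (rPart z t) ≤ t) :
    ∃ j : G, IsPEl 2 j ∧ (π j : G ⧸ center G) * π z * (π j)⁻¹ = (π z)⁻¹ ∧
      (π j : G ⧸ center G) * π u * (π j)⁻¹ = (π u)⁻¹ := by
  classical
  haveI : Fact (Nat.Prime 2) := ⟨Nat.prime_two⟩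
  set A := rPart z t
  set m := Nat.card (center G ⊓ (R : Subgroup G) : Subgroup G) with hm
  have hrelA : (center G).relIndex A = t :=
    le_antisymm hsmall (Nat.le_of_dvd (relIndex_pos' _ _)
      (K.toAC.dvd_relIndex_rPart hz (mem_cent.mpr rfl) hz))
  have hcR : (center G).relIndex (R : Subgroup G) = t * t := by
    have h1 : center G ⊓ (R : Subgroup G) = center G ⊓ A := le_antisymm (fun w hw =>
      ((center_inf_rPart z w).mpr ⟨hw.1, isPEl_of_mem R.isPGroup' hw.2⟩))
      (inf_le_inf_left _ hAR)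
    have h2 := card_inter_mul (R : Subgroup G)
    have h3 := card_inter_mul A
    rw [h1] at h2
    rw [hrelA] at h3
    have h4 : Nat.card A * t = Nat.card (R : Subgroup G) := by
      conv_lhs => rw [← hrel]
      rw [← relIndex_bot_left, relIndex_mul_relIndex _ _ _ bot_le hAR, relIndex_bot_left]
    rw [← h3, mul_assoc] at h4
    exact Nat.eq_of_mul_eq_mul_left Nat.card_pos (h2.trans h4.symm)
  set Rb := (R : Subgroup G).map (QuotientGroup.mk' (center G)) with hRb
  have hcard : Nat.card Rb = t ^ 2 := by rw [hRb, card_map_mk, hcR, pow_two]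
  have hcomm : ∀ x ∈ (R : Subgroup G), ∀ y ∈ (R : Subgroup G),
      Commute (π x : G ⧸ center G) (π y) := fun x hx y hy =>
    congrArg Subtype.val (IsPGroup.commutative_of_card_eq_prime_sq (G := Rb) hcard
      ⟨_, Subgroup.mem_map_of_mem _ hx⟩ ⟨_, Subgroup.mem_map_of_mem _ hy⟩)
  have hcm' : ∀ x ∈ (R : Subgroup G), ∀ y ∈ (R : Subgroup G), y ∈ centMod x := fun x hx y hy =>
    mem_centMod'.mpr (hcomm y hy x hx)
  -- everything commuting with `z` and `u` modulo the centre commutes with all of `R`
  have hgen : ∀ g : G, g ∈ centMod z → g ∈ centMod u → ∀ x ∈ (R : Subgroup G), g ∈ centMod x := by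
    intro g h1 h2
    have key : Rb ≤ C[(π g : G ⧸ center G)] := by
      set X := Rb ⊓ C[(π g : G ⧸ center G)]
      have hzX : (π z : G ⧸ center G) ∈ X :=
        ⟨Subgroup.mem_map_of_mem _ hzR, mem_cent_comm.mpr (mem_centMod'.mp h1)⟩
      have huX : (π u : G ⧸ center G) ∈ X :=
        ⟨Subgroup.mem_map_of_mem _ huR, mem_cent_comm.mpr (mem_centMod'.mp h2)⟩
      have hd : Nat.card X ∣ t ^ 2 := hcard ▸ card_dvd_of_le inf_le_left
      obtain ⟨i, hi, hXc⟩ := (Nat.dvd_prime_pow ht.out).mp hd
      have hzt' : (π z : G ⧸ center G) ^ t = 1 := by rw [← map_pow]; exact pi_eq_one_iff.mpr hzt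
      have hz1 : orderOf (π z : G ⧸ center G) = t :=
        orderOf_eq_prime hzt' fun h => hz.2.2 (pi_eq_one_iff.mp h)
      rcases eq_or_lt_of_le hi with rfl | hlt
      · have : X = Rb := eq_of_le_of_card_ge inf_le_left (hcard ▸ hXc.ge)
        exact this ▸ inf_le_right
      · exfalso
        have h3 : zpowers (π z : G ⧸ center G) = X := by
          refine eq_of_le_of_card_ge (zpowers_le.mpr hzX) ?_
          rw [hXc, Nat.card_zpowers, hz1]
          exact (Nat.pow_le_pow_right ht.out.pos (by omega)).trans (pow_one t).le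
        obtain ⟨k, hk⟩ := h3 ▸ huX
        refine huC (mem_cent_of_pi_eq (a := z ^ k) ?_ (zpow_mem (mem_cent.mpr rfl) k))
        rw [map_zpow]; exact hk
    intro x hx
    exact mem_centMod'.mpr (mem_cent_comm.mp (key (Subgroup.mem_map_of_mem _ hx))).symm.symm
  have hRpow : ∀ x ∈ (R : Subgroup G), x ^ t ∈ center G := by
    intro x hx
    by_cases hxA : x ∈ A
    · have h1 : (π x : G ⧸ center G) ∈ A.map (QuotientGroup.mk' (center G)) :=
        Subgroup.mem_map_of_mem _ hxA
      have h2 : (⟨_, h1⟩ : A.map (QuotientGroup.mk' (center G))) ^ t = 1 := by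
        conv_lhs => rw [← hrelA, ← card_map_mk]
        exact pow_card_eq_one'
      have h3 := congrArg Subtype.val h2
      rw [Subgroup.coe_pow, Subgroup.coe_one, ← map_pow] at h3
      exact pi_eq_one_iff.mp h3
    · exact K.pow_mem_center R.isPGroup' hz hzt hcm hx hxA
  -- the centralisers of the lines
  let f : normalizer ((R : Subgroup G) : Set G) → Subgroup G :=
    fun n => C[(n : G) * z * (n : G)⁻¹]
  have hrange : Set.range f = (fun x => C[x]) '' {x | x ∈ (R : Subgroup G) ∧ x ∉ center G} := by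
    ext X
    constructor
    · rintro ⟨⟨n, hn⟩, rfl⟩
      exact ⟨n * z * n⁻¹, ⟨(mem_normalizer_iff.mp hn z).mp hzR, not_center_conj hz.2.2 n⟩, rfl⟩
    · rintro ⟨x, ⟨hxR, hxZ⟩, rfl⟩
      have hx : IsGood s t x := ⟨hz.1, isPEl_of_mem R.isPGroup' hxR, hxZ⟩
      obtain ⟨g, hg⟩ := K.conj_all hz hx
      set z' := g * z * g⁻¹ with hz'
      have hz'x : z' ∈ C[x] := hg ▸ mem_cent.mpr rfl
      have hz'g : IsGood s t z' := hz.conj g
      have hz'R : z' ∈ (R : Subgroup G) :=
        le_sylow_of_normalised R (isPGroup_rPart x) (fun v hv a ha =>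
          conj_mem_rPart (centMod_le_normalizer x (hcm' x hxR v hv)) ha)
          (K.toAC.mem_rPart hx hz.1 hz'x hz'g.2.1)
      have hPK : (R : Subgroup G) ≤ centMod z' := fun v hv => hcm' z' hz'R v hv
      have hgK : ((g • R : Sylow t G) : Subgroup G) ≤ centMod z' := by
        rw [Sylow.coe_subgroup_smul]
        rintro _ ⟨v, hv, rfl⟩
        refine mem_centMod'.mpr ?_
        show Commute (π (g * v * g⁻¹)) (π (g * z * g⁻¹))
        simp only [map_mul, map_inv]
        exact (Commute.conj_iff _).mpr (hcomm v hv z hzR)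
      obtain ⟨⟨k, hk⟩, hkP⟩ :=
        MulAction.exists_smul_eq (centMod z') ((g • R).subtype hgK) (R.subtype hPK)
      simp_rw [Sylow.smul_subtype, Subgroup.smul_def, smul_smul] at hkP
      refine ⟨⟨k * g, Sylow.smul_eq_iff_mem_normalizer.mp (Sylow.subtype_injective hkP)⟩, ?_⟩
      obtain ⟨c, hc, hkc⟩ := mem_centMod.mp hk
      show C[k * g * z * (k * g)⁻¹] = C[x]
      rw [show k * g * z * (k * g)⁻¹ = k * z' * k⁻¹ by rw [hz']; group, hkc,
        H36.cent_mul_central hc, hg]
  set H := normalizer ((C[z] : Subgroup G) : Set G)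
  have hH : Nat.card (Set.range f) = H.relIndex (normalizer ((R : Subgroup G) : Set G)) := by
    set H' := H.subgroupOf (normalizer ((R : Subgroup G) : Set G))
    have hiff : ∀ a b, f a = f b ↔ a⁻¹ * b ∈ H' := by
      intro a b
      rw [mem_subgroupOf, Subgroup.coe_mul, Subgroup.coe_inv]
      show C[(a : G) * z * (a : G)⁻¹] = C[(b : G) * z * (b : G)⁻¹] ↔ _
      constructor
      · intro h
        refine mem_normalizer_of_cent_eq ?_
        rw [show (a : G)⁻¹ * b * z * ((a : G)⁻¹ * b)⁻¹ =
          (a : G)⁻¹ * (b * z * (b : G)⁻¹) * (a : G)⁻¹⁻¹ by group, cent_conj, ← h, ← cent_conj]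
        congr 2; group
      · intro h
        have h1 := cent_conj_of_mem_normalizer h
        rw [show (b : G) * z * (b : G)⁻¹ =
          a * ((a : G)⁻¹ * b * z * ((a : G)⁻¹ * b)⁻¹) * (a : G)⁻¹ by group,
          cent_conj (a : G) ((a : G)⁻¹ * b * z * ((a : G)⁻¹ * b)⁻¹), h1, ← cent_conj]
    refine (Nat.card_congr (Equiv.ofBijective (fun q => Quotient.liftOn' q
      (fun a => (⟨f a, Set.mem_range_self a⟩ : Set.range f)) (fun a b h => Subtype.ext
        ((hiff a b).mpr (QuotientGroup.leftRel_apply.mp h)))) ⟨?_, ?_⟩)).symm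
    · rintro ⟨a⟩ ⟨b⟩ h
      exact QuotientGroup.eq.mpr ((hiff a b).mp (congrArg Subtype.val h))
    · rintro ⟨_, a, rfl⟩
      exact ⟨QuotientGroup.mk a, rfl⟩
  have hlines : Nat.card (Set.range f) = t + 1 := by
    haveI := Fintype.ofFinite G
    set S : Finset G := Finset.univ.filter fun x => x ∈ (R : Subgroup G) ∧ x ∉ center G
    have hcount : ∀ (X : Subgroup G), X ≤ (R : Subgroup G) → center G ⊓ (R : Subgroup G) ≤ X →
        (Finset.univ.filter fun x => x ∈ X ∧ x ∉ center G).card + m = Nat.card X := by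
      intro X hX hZX
      have h1 : center G ⊓ X = center G ⊓ (R : Subgroup G) :=
        le_antisymm (inf_le_inf_left _ hX) (le_inf inf_le_left hZX)
      rw [hm, ← h1, Nat.card_eq_fintype_card, Fintype.card_subtype, Nat.card_eq_fintype_card,
        Fintype.card_subtype, ← Finset.card_union_of_disjoint]
      · congr 1
        ext x
        simp only [Finset.mem_union, Finset.mem_filter, Finset.mem_univ, true_and,
          Subgroup.mem_inf]
        tauto
      · rw [Finset.disjoint_filter]
        exact fun x _ h1 h2 => h1.2 h2.1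
    have hS : S.card + m = t * t * m := by
      rw [hcount _ le_rfl inf_le_right, ← card_inter_mul, hcR, mul_comm]
    have hfib : ∀ X ∈ S.image (fun x => C[x]), (S.filter fun x => C[x] = X).card + m = t * m := by
      intro X hX
      obtain ⟨x, hx, rfl⟩ := Finset.mem_image.mp hX
      simp only [S, Finset.mem_filter, Finset.mem_univ, true_and] at hx
      have hxg : IsGood s t x := ⟨hz.1, isPEl_of_mem R.isPGroup' hx.1, hx.2⟩
      set Y := (R : Subgroup G) ⊓ C[x]
      have h1 : (S.filter fun y => C[y] = C[x]) =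
          Finset.univ.filter fun y => y ∈ Y ∧ y ∉ center G := by
        ext y
        simp only [S, Y, Finset.mem_filter, Finset.mem_univ, true_and, Subgroup.mem_inf]
        constructor
        · rintro ⟨⟨hy, hyZ⟩, he⟩
          exact ⟨⟨hy, he ▸ mem_cent.mpr rfl⟩, hyZ⟩
        · rintro ⟨⟨hy, hyC⟩, hyZ⟩
          exact ⟨⟨hy, hyZ⟩, K.cent t t x y hxg ⟨hz.1, isPEl_of_mem R.isPGroup' hy, hyZ⟩ hyC⟩
      rw [h1, hcount Y inf_le_left (le_inf inf_le_right
        (inf_le_left.trans (center_le_centralizer _))), ← card_inter_mul]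
      have h2 : center G ⊓ Y = center G ⊓ (R : Subgroup G) :=
        le_antisymm (inf_le_inf_left _ inf_le_left) (le_inf inf_le_left (le_inf inf_le_right
          (inf_le_left.trans (center_le_centralizer _))))
      rw [h2, ← hm, mul_comm]
      congr 1
      have h3 : (center G).relIndex Y ∣ t ^ 2 := by
        rw [← hcard, ← card_map_mk]
        exact card_dvd_of_le (Subgroup.map_mono inf_le_left)
      obtain ⟨i, hi, hYi⟩ := (Nat.dvd_prime_pow ht.out).mp h3
      interval_cases i
      · exact absurd ((relIndex_eq_one.mp (by rw [hYi, pow_zero]))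
          (show x ∈ Y from ⟨hx.1, mem_cent.mpr rfl⟩)) hx.2
      · rw [hYi, pow_one]
      · exfalso
        have h4 : Y.map (QuotientGroup.mk' (center G)) = Rb :=
          eq_of_le_of_card_ge (Subgroup.map_mono inf_le_left) (by
            rw [hcard, card_map_mk, hYi])
        have h5 : ∀ w ∈ (R : Subgroup G), w ∈ C[x] := by
          intro w hw
          obtain ⟨y, hy, hyw⟩ : (π w : G ⧸ center G) ∈ Y.map (QuotientGroup.mk' (center G)) :=
            h4.symm ▸ Subgroup.mem_map_of_mem _ hw
          exact mem_cent_of_pi_eq hyw hy.2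
        exact huC ((K.cent t t x z hxg hz (h5 z hzR)).symm ▸ h5 u huR)
    have hsum := Finset.card_eq_sum_card_image (fun x => C[x]) S
    have himg : Nat.card (Set.range f) = (S.image fun x => C[x]).card := by
      rw [hrange, Nat.card_coe_set_eq,
        ← Set.ncard_coe_finset (S.image fun x => C[x])]
      simp [S, Finset.coe_image, Finset.coe_filter]
    rw [himg]
    set c := (S.image fun x => C[x]).card with hc
    obtain ⟨r, hr⟩ : ∃ r, t = r + 1 := ⟨t - 1, by have := ht.out.pos; omega⟩
    have h6 : S.card = c * (r * m) := by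
      rw [hsum, hc, ← smul_eq_mul, ← Finset.sum_const]
      refine Finset.sum_congr rfl fun X hX => ?_
      have := hfib X hX
      rw [hr, add_mul, one_mul] at this
      omega
    rw [h6, hr] at hS
    have hrm : 0 < r * m := Nat.mul_pos (by have := ht.out.two_le; omega) Nat.card_pos
    rw [hr]
    exact Nat.eq_of_mul_eq_mul_right hrm (by linarith [hS])
  -- an element of two-power order outside the pointwise stabiliser
  set Cm := centMod z ⊓ centMod u
  have h2 : 2 ∣ Cm.relIndex (normalizer ((R : Subgroup G) : Set G)) := by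
    refine dvd_trans ?_ (relIndex_dvd_of_le_left (normalizer ((R : Subgroup G) : Set G))
      (show Cm ≤ H from inf_le_left.trans (centMod_le_normalizer z)))
    rw [← hH, hlines]
    obtain ⟨k, hk⟩ := ht.out.odd_of_ne_two ht2
    exact ⟨k + 1, by omega⟩
  obtain ⟨S₂⟩ : Nonempty (Sylow 2 (normalizer ((R : Subgroup G) : Set G))) := inferInstance
  obtain ⟨⟨j₀, hj₀N⟩, hj₀S, hj₀⟩ : ∃ x, x ∈ (S₂ : Subgroup _) ∧
      x ∉ Cm.subgroupOf (normalizer ((R : Subgroup G) : Set G)) := by
    by_contra hall
    push Not at hall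
    exact not_dvd_index_iff.mpr ⟨S₂, fun x hx => hall x hx⟩ h2
  have hj₀p : IsPEl 2 j₀ :=
    H36.isPEl_map (normalizer ((R : Subgroup G) : Set G)).subtype
      (g := ⟨j₀, hj₀N⟩) (isPEl_of_mem S₂.isPGroup' hj₀S)
  have hex : ∃ i, j₀ ^ 2 ^ i ∈ Cm := by
    obtain ⟨i, hi⟩ := hj₀p
    exact ⟨i, by rw [← hi, pow_orderOf_eq_one]; exact one_mem _⟩
  obtain ⟨i, hi⟩ := Nat.exists_eq_succ_of_ne_zero (n := Nat.find hex) fun h0 =>
    hj₀ (mem_subgroupOf.mpr (by simpa [h0] using Nat.find_spec hex))
  set j := j₀ ^ 2 ^ i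
  have hjp : IsPEl 2 j := H36.isPEl_pow hj₀p _
  have hjN : j ∈ normalizer ((R : Subgroup G) : Set G) := pow_mem hj₀N _
  have hjC : j ∉ Cm := Nat.find_min hex (by omega)
  have hj2 : j ^ 2 ∈ Cm := by
    have := Nat.find_spec hex
    rwa [hi, pow_succ, pow_mul] at this
  -- `j` inverts all of `R`
  have hinv : ∀ x ∈ (R : Subgroup G),
      (π j : G ⧸ center G) * π x * (π j)⁻¹ = (π x)⁻¹ := by
    intro x hx
    have hx' : j * x * j⁻¹ ∈ (R : Subgroup G) := (mem_normalizer_iff.mp hjN x).mp hx
    have hyR : x * (j * x * j⁻¹) ∈ (R : Subgroup G) := mul_mem hx hx'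
    by_cases hy : x * (j * x * j⁻¹) ∈ center G
    · rw [← pi_eq_one_iff] at hy
      simp only [map_mul, map_inv] at hy
      exact eq_inv_of_mul_eq_one_right hy
    exfalso
    set y := x * (j * x * j⁻¹) with hydef
    have hyg : IsGood s t y := ⟨hz.1, isPEl_of_mem R.isPGroup' hyR, hy⟩
    have hfix : j ∈ centMod y := by
      refine mem_centMod'.mpr ?_
      have h1 : Commute (π j ^ 2 : G ⧸ center G) (π x) := by
        rw [← map_pow]; exact mem_centMod'.mp (hgen _ hj2.1 hj2.2 x hx)
      have h3 := hcomm x hx _ hx'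
      simp only [map_mul, map_inv] at h3
      show π j * π y = π y * π j
      rw [hydef]; simp only [map_mul, map_inv]
      calc π j * (π x * (π j * π x * (π j)⁻¹))
          = (π j * π x * (π j)⁻¹) * (π j ^ 2 * π x * (π j ^ 2)⁻¹) * π j := by
            rw [pow_two]; group
        _ = _ := by rw [h1.eq, mul_inv_cancel_right, h3.eq]
    have hjy : j ∈ C[y] := by
      have h1 := pow_mem_cent_of_mem_centMod (hRpow y hyR) hfix
      obtain ⟨k, hk⟩ := hjp
      obtain ⟨n, hn⟩ := exists_pow_eq_self_of_coprime (x := j) (n := t) (hk ▸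
        ((Nat.coprime_primes ht.out Nat.prime_two).mpr ht2).pow_right k)
      exact hn ▸ pow_mem h1 n
    have hv : ∀ v ∈ (R : Subgroup G), j ∈ centMod v := by
      intro v hv
      have hvN := centMod_le_normalizer y (hcm' y hyR v hv)
      set c := j * v * j⁻¹ * v⁻¹ with hcdef
      have hcR : c ∈ (R : Subgroup G) := mul_mem ((mem_normalizer_iff.mp hjN v).mp hv) (inv_mem hv)
      have hcC : c ∈ C[y] := by
        have := mul_mem hjy ((mem_normalizer_iff.mp hvN j⁻¹).mp (inv_mem hjy))
        simpa [hcdef, mul_assoc] using this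
      have hjc : Commute (π j : G ⧸ center G) (π c) := by
        by_cases hcZ : c ∈ center G
        · rw [pi_eq_one_iff.mpr hcZ]; exact Commute.one_right _
        · refine (mem_cent_comm.mp ?_).symm.map (QuotientGroup.mk' (center G))
          rw [K.cent t t y c hyg ⟨hz.1, isPEl_of_mem R.isPGroup' hcR, hcZ⟩ hcC]
          exact hjy
      have h1 : Commute (π j ^ 2 : G ⧸ center G) (π v) := by
        rw [← map_pow]; exact mem_centMod'.mp (hgen _ hj2.1 hj2.2 v hv)
      have h4 : (π j : G ⧸ center G) * π v * (π j)⁻¹ = π c * π v := by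
        rw [hcdef]; simp only [map_mul, map_inv]; group
      have h5 : (π c : G ⧸ center G) ^ 2 = 1 := by
        have h6 : π c * (π c * π v) = (π v : G ⧸ center G) := by
          calc π c * (π c * π v) = π c * (π j * π v * (π j)⁻¹) := by rw [h4]
            _ = π j * (π c * π v) * (π j)⁻¹ := by rw [← mul_assoc (π j), hjc.eq]; group
            _ = π j ^ 2 * π v * (π j ^ 2)⁻¹ := by rw [← h4, pow_two]; group
            _ = _ := by rw [h1.eq, mul_inv_cancel_right]
        rw [← mul_assoc, mul_eq_right] at h6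
        rw [pow_two]; exact h6
      have h7 : (π c : G ⧸ center G) = 1 := by
        have h8 : (π c : G ⧸ center G) ^ t = 1 := by
          rw [← map_pow]; exact pi_eq_one_iff.mpr (hRpow c hcR)
        exact mem_bot.mp (mem_of_sq_mem_of_pow_mem (ht.out.odd_of_ne_two ht2)
          (mem_bot.mpr h5) (mem_bot.mpr h8))
      refine mem_centMod'.mpr (mul_inv_eq_iff_eq_mul.mp ?_)
      rw [h4, h7, one_mul]
    exact hjC ⟨hv z hzR, hv u huR⟩
  exact ⟨j, hjp, hinv z hzR, hinv u huR⟩

/-- Only the exceptional prime divides the index of a good centraliser. -/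
theorem not_dvd_index (K : Config G s) [Fact s.Prime] {t₀ t : ℕ} [Fact t₀.Prime]
    [ht : Fact t.Prime] {h : G} (hh : IsGood s t₀ h) (hts : t ≠ s) : ¬ t ∣ (C[h]).index := by
  intro hd
  rcases eq_or_ne t 2 with rfl | ht2
  · exact K.not_two_dvd_index hh hts hd
  obtain ⟨R, z, hzR, hz, hzt, hcm, hzh, hAR, hrel⟩ := K.exists_rep hh hts hd
  obtain ⟨u, huR, huA⟩ : ∃ u ∈ (R : Subgroup G), u ∉ rPart z t := by
    by_contra hall
    push Not at hall
    have h1 := relIndex_eq_one.mpr
      (show (R : Subgroup G) ≤ rPart z t from fun v hv => hall v hv)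
    have := ht.out.two_le
    omega
  have huC : u ∉ C[z] := fun huz =>
    huA (K.toAC.mem_rPart hz hts huz (isPEl_of_mem R.isPGroup' huR))
  have hu : IsGood s t u := ⟨hts, isPEl_of_mem R.isPGroup' huR,
    fun hc => huC (center_le_centralizer _ hc)⟩
  have hut := K.pow_mem_center R.isPGroup' hz hzt hcm huR huA
  obtain ⟨j, hj, hjz, hju⟩ : ∃ j : G, IsPEl 2 j ∧
      (π j : G ⧸ center G) * π z * (π j)⁻¹ = (π z)⁻¹ ∧
      (π j : G ⧸ center G) * π u * (π j)⁻¹ = (π u)⁻¹ := by
    rcases le_or_gt ((center G).relIndex (rPart z t)) t with hle | hlt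
    · exact K.exists_inverter_of_small ht2 R hzR huR hz hzt hcm hAR hrel huC hle
    · exact K.exists_inverter hz hu hzt hut (hcm huR) huC hlt
  exact K.no_inverter ht2 hz hzt hut (hcm huR) huC hu.2.1 hj hjz hju

end Config

end H27.Three
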