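import Cfsg.Agent.H27.ThreeSizes.Count

/-!
Two class sizes of noncentral elements and no proper inclusion between centralisers: solvable.
-/

set_option autoImplicit false
set_option linter.style.haveILetI false
set_option linter.unusedSectionVars false

namespace H27.Three

open Subgroup H27.CMN
open H36 (IsPEl isPEl_of_mem)

local notation "C[" x "]" => Subgroup.centralizer (Singleton.singleton x : Set _)

universe u

variable {G : Type u} [Group G] [Finite G]

namespace NoIncl

variable {a b : ℕ}

theorem nilpotent_cent (F : NoIncl G a b) {x : G} (hx : x ∉ center G)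
    (hcomp : ∀ p : ℕ, p.Prime → ∃ q : ℕ, q.Prime ∧ q ≠ p ∧ q ∣ (center G).relIndex C[x]) :
    Group.IsNilpotent C[x] := by
  refine Subgroup.nilpotent_iff_lowerCentralSeries.mpr ⟨1, ?_⟩
  rw [Subgroup.lowerCentralSeries_succ, Subgroup.lowerCentralSeries_zero,
    Subgroup.commutator_eq_bot_iff_le_centralizer]
  intro u _ v _
  by_cases hvZ : (v : G) ∈ center G
  · exact Subtype.ext (mem_center_iff.mp hvZ u).symm
  · have hu : (u : G) ∈ C[(v : G)] := (F.cent_eq_of_mem hx hcomp v.2 hvZ).symm ▸ u.2
    exact Subtype.ext (mem_cent.mp hu).symm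

theorem solvable_aux (F : NoIncl G a b) (hcomp : ∀ g : G, g ∉ center G → ∀ p : ℕ, p.Prime →
    ∃ q : ℕ, q.Prime ∧ q ≠ p ∧ q ∣ (center G).relIndex C[g]) {x y : G} (hx : x ∉ center G)
    (hy : y ∉ center G) (hne : (C[x]).index ≠ (C[y]).index)
    (hN : (C[x]).relIndex (normalizer ((C[x] : Subgroup G) : Set G)) = 1) : Group.IsSolvable G := by
  classical
  have A := F.toAC hcomp
  set c₁ := (center G).relIndex C[x]
  set c₂ := (center G).relIndex C[y]
  have hval : ∀ g : G, g ∉ center G → (C[g]).index = (C[x]).index ∨ (C[g]).index = (C[y]).index := by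
    intro g hg
    rcases F.sizes g hg with h | h <;> rcases F.sizes x hx with h' | h' <;>
      rcases F.sizes y hy with h'' | h'' <;> simp_all
  have hNC : normalizer ((C[x] : Subgroup G) : Set G) = C[x] :=
    le_antisymm (relIndex_eq_one.mp hN) le_normalizer
  obtain ⟨t₀, ht₀, h, hh, hxh⟩ := F.exists_good hx
  -- primes of `c₁` do not divide the index of `C[x]`
  have P1 : ∀ (t : ℕ) [Fact t.Prime], t ∣ c₁ → ¬ t ∣ (C[x]).index := by
    intro t ht htc htd
    obtain ⟨v, hv, hvp, hvZ⟩ := (exists_pEl_not_center_iff C[x]).mpr htc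
    rw [hxh] at htd hv hNC
    obtain ⟨u, -, huN, huC, -⟩ := A.exists_normalizer_not_mem hh ht.out.ne_zero htd fun hle =>
      hvZ (hle (A.mem_rPart hh ht.out.ne_zero hv hvp))
    exact huC (hNC ▸ huN)
  -- nor `c₂`
  have P2 : ∀ (t : ℕ) [Fact t.Prime], t ∣ c₁ → ¬ t ∣ c₂ := by
    intro t ht ht1 ht2
    obtain ⟨w, hw, hwp, hwZ⟩ := (exists_pEl_not_center_iff C[y]).mpr ht2
    have hwy := F.cent_eq_of_mem hy (hcomp y hy) hw hwZ
    obtain ⟨T, hT⟩ := not_dvd_index_iff.mp (P1 t ht1)
    obtain ⟨T', hT'⟩ := (H36.isPGroup_zpowers_of_isPEl hwp).exists_le_sylow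
    obtain ⟨g, rfl⟩ := MulAction.exists_smul_eq G T T'
    have h1 := hT' (mem_zpowers w)
    rw [Sylow.coe_subgroup_smul] at h1
    obtain ⟨v, hv, hvw⟩ := h1
    have hvw' : g * v * g⁻¹ = w := hvw
    have hvZ : v ∉ center G := fun h => hwZ (hvw' ▸
      Subgroup.Normal.conj_mem inferInstance _ h g)
    refine hne ?_
    rw [← hwy, ← F.cent_eq_of_mem hx (hcomp x hx) (hT hv) hvZ, ← hvw', index_cent_conj]
  have hcop : c₁.Coprime c₂ :=
    Nat.coprime_of_dvd fun p hp h1 h2 => @P2 p ⟨hp⟩ h1 h2
  have hn1 : c₁ * (C[x]).index = (center G).index := relIndex_center_mul_index x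
  have hn2 : c₂ * (C[y]).index = (center G).index := relIndex_center_mul_index y
  obtain ⟨e', he'⟩ : c₂ ∣ (C[x]).index :=
    hcop.symm.dvd_of_dvd_mul_left (hn1 ▸ hn2 ▸ dvd_mul_right _ _)
  have hc₁ : 0 < c₁ := relIndex_pos' _ _
  have hc₂ : 0 < c₂ := relIndex_pos' _ _
  have hb : (C[y]).index = c₁ * e' := by
    refine Nat.eq_of_mul_eq_mul_left hc₂ ?_
    rw [hn2, ← hn1, he']; ring
  have he0 : e' ≠ 0 := fun h => by
    rw [h, mul_zero] at he'
    exact index_ne_zero_of_finite he'
  -- the primes of the index of `C[x]` divide `c₂`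
  have P3 : ∀ (t : ℕ) [Fact t.Prime], t ∣ (C[x]).index → t ∣ c₂ := by
    intro t ht htd
    obtain ⟨g, hg, hgZ, hgd⟩ := exists_pEl_of_dvd_index_center (r := t) (htd.trans (Dvd.intro_left _ hn1))
    rcases hval g hgZ with he | he
    · exact absurd htd (P1 t (show t ∣ (center G).relIndex C[x] from relIndex_center_eq_of_index_eq he ▸ hgd))
    · exact show t ∣ (center G).relIndex C[y] from relIndex_center_eq_of_index_eq he ▸ hgd
  -- their multiplicity in the index of `C[y]` is at most one
  have P4 : ∀ (t : ℕ) [Fact t.Prime], t ∣ c₂ → (C[y]).index.factorization t ≤ 1 := by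
    intro t ht htc
    obtain ⟨R⟩ : Nonempty (Sylow t G) := inferInstance
    obtain ⟨w, hw, hwp, hwZ⟩ := (exists_pEl_not_center_iff C[y]).mpr htc
    have hR : ¬ (R : Subgroup G) ≤ center G := fun hle => by
      obtain ⟨T', hT'⟩ := (H36.isPGroup_zpowers_of_isPEl hwp).exists_le_sylow
      obtain ⟨g, rfl⟩ := MulAction.exists_smul_eq G R T'
      have h1 := hT' (mem_zpowers w)
      rw [Sylow.coe_subgroup_smul] at h1
      obtain ⟨v, hv, hvw⟩ := h1
      exact hwZ (hvw ▸ Subgroup.Normal.conj_mem inferInstance _ (hle hv) g)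
    obtain ⟨z, hzR, hz, -, -, -, hle, hd⟩ := A.exists_normalised ht.out.ne_zero R hR
    have hzy : (C[z]).index = (C[y]).index := by
      refine (hval z hz.2.2).resolve_left fun he => ?_
      have h1 : t ∣ (center G).relIndex C[x] := (relIndex_center_eq_of_index_eq he) ▸
        (exists_pEl_not_center_iff _).mp ⟨z, mem_cent.mpr rfl, hz.2.1, hz.2.2⟩
      exact P2 t h1 htc
    rw [← hzy]
    have h2 : Nat.card (R : Subgroup G) ∣ Nat.card C[z] * t := by
      have h3 : Nat.card (rPart z t) * (rPart z t).relIndex (R : Subgroup G) =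
          Nat.card (R : Subgroup G) := by
        rw [← relIndex_bot_left, relIndex_mul_relIndex _ _ _ bot_le hle, relIndex_bot_left]
      rw [← h3]
      exact Nat.mul_dvd_mul (card_dvd_of_le (Sizes.rPart_le_cent z)) hd
    rw [R.card_eq_multiplicity] at h2
    have h4 := (Nat.Prime.pow_dvd_iff_le_factorization ht.out
      (Nat.mul_pos Nat.card_pos ht.out.pos).ne').mp h2
    rw [Nat.factorization_mul Nat.card_pos.ne' ht.out.ne_zero, Finsupp.add_apply,
      ht.out.factorization_self, ← factorization_card_add_index C[z] t] at h4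
    omega
  have hfe : ∀ t : ℕ, e'.factorization t ≤ (C[y]).index.factorization t := fun t => by
    rw [hb, Nat.factorization_mul hc₁.ne' he0, Finsupp.add_apply]
    exact Nat.le_add_left _ _
  have hdvd : e' ∣ c₂ := by
    rw [← Nat.factorization_prime_le_iff_dvd he0 hc₂.ne']
    intro t ht
    haveI : Fact t.Prime := ⟨ht⟩
    rcases Nat.eq_zero_or_pos (e'.factorization t) with h0 | hpos
    · omega
    · have htc : t ∣ c₂ := P3 t ((Nat.dvd_of_factorization_pos hpos.ne').trans
        (Dvd.intro_left _ he'.symm))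
      have := P4 t htc
      have := hfe t
      have := ht.factorization_pos_of_dvd hc₂.ne' htc
      omega
  have hlt : e' < c₂ := by
    obtain ⟨t', ht', h', hh', hyh⟩ := F.exists_good hy
    obtain ⟨p, hp, ⟨v, hv, hvg⟩, hbig⟩ := A.exists_big hh'
    have hpc : p ∣ c₂ := (exists_pEl_not_center_iff _).mp ⟨v, hyh ▸ hv, hvg.2.1, hvg.2.2⟩
    refine lt_of_le_of_ne (Nat.le_of_dvd hc₂ hdvd) fun he => ?_
    have h1 := hfe p
    rw [he] at h1
    have h2 := P4 p hpc
    have h3 := hp.out.factorization_pos_of_dvd hc₂.ne' hpc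
    rcases hbig with hfull | hbig
    · rw [← hyh] at hfull
      rw [Nat.factorization_eq_zero_of_not_dvd hfull] at h1
      omega
    · obtain ⟨i, hi⟩ := IsPGroup.iff_card.mp
        ((isPGroup_rPart (r := p) h').map (QuotientGroup.mk' (center G)))
      rw [card_map_mk] at hi
      have h4 : p ^ 2 ∣ c₂ := by
        refine (pow_dvd_pow p ?_).trans ((hi ▸ relIndex_dvd_of_le (center G)
          (Sizes.rPart_le_cent h') :).trans (dvd_of_eq (by rw [← hyh])))
        by_contra hi2
        rw [hi] at hbig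
        have h5 := Nat.pow_le_pow_right hp.out.pos (show i ≤ 1 by omega)
        rw [pow_one] at h5
        omega
      have h6 := (hp.out.pow_dvd_iff_le_factorization hc₂.ne').mp h4
      omega
  have hcount := F.count hcomp hx hy hne
  rw [hNC] at hcount
  rw [show c₁ = (center G).relIndex C[x] from rfl, mul_comm] at hn1
  rw [hn1, he'] at hcount
  set j₂ := (normalizer ((C[y] : Subgroup G) : Set G)).index
  have heq : c₂ * e' + j₂ = j₂ * c₂ + 1 := by
    have : (center G).index + c₂ * e' + j₂ = (center G).index + j₂ * c₂ + 1 := hcount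
    omega
  have he1 : e' = 1 := by
    rcases lt_trichotomy j₂ e' with hlt' | hlt' | hlt'
    · nlinarith
    · rw [hlt', mul_comm] at heq; omega
    · nlinarith
  rw [he1, mul_one] at he' hb
  exact H4.isSolvable_of_nilpotent_factors C[x] C[y] (F.nilpotent_cent hx (hcomp x hx))
    (F.nilpotent_cent hy (hcomp y hy))
    (H1.exists_mul_eq_of_coprime_index _ _ (he' ▸ hb ▸ hcop.symm))

/-- Two class sizes of noncentral elements without proper inclusions: solvable. -/
theorem solvable (F : NoIncl G a b) : Group.IsSolvable G := by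
  rcases F.composite_or_solvable with h | hcomp
  · exact h
  by_cases hall : ∀ g : G, g ∈ center G
  · exact Group.isSolvable_of_comm fun u v => mem_center_iff.mp (hall v) u
  push Not at hall
  obtain ⟨x, hx⟩ := hall
  obtain ⟨y, hy, hne⟩ := F.exists_other_index hcomp hx
  set Nx := normalizer ((C[x] : Subgroup G) : Set G)
  set Ny := normalizer ((C[y] : Subgroup G) : Set G)
  by_cases hex : (C[x]).relIndex Nx = 1
  · exact F.solvable_aux hcomp hx hy hne hex
  by_cases hey : (C[y]).relIndex Ny = 1
  · exact F.solvable_aux hcomp hy hx hne.symm hey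
  exfalso
  have hc := F.count hcomp hx hy hne
  have h1 : (C[x]).relIndex Nx * Nx.index = (C[x]).index := relIndex_mul_index le_normalizer
  have h2 : (C[y]).relIndex Ny * Ny.index = (C[y]).index := relIndex_mul_index le_normalizer
  have h3 := relIndex_center_mul_index x
  have h4 := relIndex_center_mul_index y
  rw [← h1] at h3
  rw [← h2] at h4
  have h5 : 2 ≤ (C[x]).relIndex Nx := by have := relIndex_pos' C[x] Nx; omega
  have h6 : 2 ≤ (C[y]).relIndex Ny := by have := relIndex_pos' C[y] Ny; omega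
  have h7 : 0 < Nx.index := Nat.pos_of_ne_zero index_ne_zero_of_finite
  have h8 : 0 < Ny.index := Nat.pos_of_ne_zero index_ne_zero_of_finite
  have h9 := Nat.mul_le_mul_left ((center G).relIndex C[x]) (Nat.mul_le_mul_right Nx.index h5)
  have h10 := Nat.mul_le_mul_left ((center G).relIndex C[y]) (Nat.mul_le_mul_right Ny.index h6)
  nlinarith [hc, h3, h4, h7, h8, h9, h10]

end NoIncl

end H27.Three
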