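import Cfsg.Agent.H27.ThreeSizes.Config
import Cfsg.Agent.H25.Kazarin
import Cfsg.Agent.H1.Cores

/-!
The prime `2` does not divide the index of a good centraliser unless it is the exceptional prime.
-/

set_option autoImplicit false
set_option linter.style.haveILetI false

namespace H27.Three

open Subgroup H27.CMN
open H36 (IsPEl isPEl_of_mem)
open scoped commutatorElement

local notation "C[" x "]" => Subgroup.centralizer (Singleton.singleton x : Set _)

universe u

/-- A noncentral solvable normal subgroup yields a noncentral normal subgroup of prime power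
order. -/
theorem exists_normal_pGroup {Q : Type u} [Group Q] [Finite Q] (L : Subgroup Q) [L.Normal]
    [hs : Group.IsSolvable L] (hL : ¬ L ≤ center Q) :
    ∃ (t : ℕ) (_ : Fact t.Prime) (W : Subgroup Q), W.Normal ∧ IsPGroup t W ∧
      ¬ W ≤ center Q := by
  classical
  have hex : ∃ n, (derivedSeries L n).map L.subtype ≤ center Q := by
    obtain ⟨n, hn⟩ := hs.solvable
    exact ⟨n, by rw [hn, Subgroup.map_bot]; exact bot_le⟩
  have h0 : Nat.find hex ≠ 0 := fun h => hL (by
    have := Nat.find_spec hex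
    rwa [h, derivedSeries_zero, ← MonoidHom.range_eq_map, L.range_subtype] at this)
  obtain ⟨n, hn⟩ := Nat.exists_eq_succ_of_ne_zero h0
  set D := (derivedSeries L n).map L.subtype
  have hD : ¬ D ≤ center Q := Nat.find_min hex (by omega)
  have hDD : ⁅D, D⁆ ≤ center Q := by
    have := Nat.find_spec hex
    rwa [hn, Nat.succ_eq_add_one, derivedSeries_succ, Subgroup.map_commutator] at this
  haveI hDn : D.Normal := inferInstance
  haveI hnil : Group.IsNilpotent D := by
    refine Subgroup.nilpotent_iff_lowerCentralSeries.mpr ⟨2, ?_⟩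
    rw [Subgroup.lowerCentralSeries_succ, Subgroup.lowerCentralSeries_succ,
      Subgroup.lowerCentralSeries_zero, Subgroup.commutator_eq_bot_iff_le_centralizer]
    intro a ha b _
    have h1 : (a : Q) ∈ ⁅D, D⁆ := by
      rw [← D.map_subtype_commutator]
      exact Subgroup.mem_map_of_mem D.subtype ha
    exact Subtype.ext (mem_center_iff.mp (hDD h1) b)
  by_contra hcon
  push Not at hcon
  refine hD fun x hx => ?_
  refine mem_subgroupOf.mp (mem_of_primary ((center Q).subgroupOf D) (⟨x, hx⟩ : D) ?_)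
  intro p hp i hpi
  obtain ⟨P, hP⟩ := (H36.isPGroup_zpowers_of_isPEl hpi).exists_le_sylow
  have hPn : (P : Subgroup D).Normal :=
    Sylow.normal_of_normalizerCondition Group.normalizerCondition_of_isNilpotent P
  haveI := P.characteristic_of_normal hPn
  exact mem_subgroupOf.mpr (hcon p hp ((P : Subgroup D).map D.subtype) inferInstance
    (P.isPGroup'.map _) (Subgroup.mem_map_of_mem D.subtype (hP (mem_zpowers _))))

variable {G : Type u} [Group G] [Finite G] {s : ℕ}

namespace Config

theorem not_two_dvd_index (K : Config G s) [hs : Fact s.Prime] {t₀ : ℕ} [Fact t₀.Prime] {h : G}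
    (hh : IsGood s t₀ h) (h2s : 2 ≠ s) : ¬ 2 ∣ (C[h]).index := by
  intro hd
  haveI : Fact (Nat.Prime 2) := ⟨Nat.prime_two⟩
  obtain ⟨z, hz, hzt, hzh, ⟨u, huz, huC⟩, hN, -⟩ := K.two_step hh h2s hd
  -- a solvable normal subgroup containing `z`
  set π := QuotientGroup.mk' (center G) with hπ
  obtain ⟨k, hk⟩ : ∃ k, (C[π z]).index = s ^ k := by
    have h1 : (centMod z).index = (C[π z]).index :=
      index_comap_of_surjective _ (QuotientGroup.mk'_surjective _)
    refine ⟨_, h1 ▸ Nat.eq_prime_pow_of_unique_prime_dvd index_ne_zero_of_finite fun {d} hdp hdd => ?_⟩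
    by_contra hds
    haveI : Fact d.Prime := ⟨hdp⟩
    exact K.not_dvd_index_normalizer hh hds (hdd.trans (index_dvd_of_le hN))
  haveI hsolv := H25.kazarin hs.out _ rfl (π z) k hk
  set L := (normalClosure ({π z} : Set (G ⧸ center G))).comap π
  haveI : Group.IsSolvable L := by
    have hle : center G ≤ L := fun c hc => by
      rw [mem_comap, show π c = 1 from (QuotientGroup.eq_one_iff c).mpr hc]
      exact one_mem _
    haveI : Group.IsSolvable (center G) :=
      Group.isSolvable_of_comm fun a b => Subtype.ext (mem_center_iff.mp b.2 a)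
    refine Group.isSolvable_of_ker_le_range (inclusion hle) (π.subgroupComap _) fun a ha => ?_
    have h1 : π a = 1 := congrArg Subtype.val (MonoidHom.mem_ker.mp ha)
    exact ⟨⟨a, (QuotientGroup.eq_one_iff (a : G)).mp h1⟩, rfl⟩
  have hzL : z ∈ L := subset_normalClosure (Set.mem_singleton _)
  -- pass to the quotient by the `s`-core
  haveI hOn : (Cfsg.pCore s G).Normal := H1.pCore_normal' s G
  set O := Cfsg.pCore s G
  set ρ := QuotientGroup.mk' O with hρ
  set L' := L.map ρ
  haveI : L'.Normal := Subgroup.Normal.map inferInstance ρ (QuotientGroup.mk'_surjective O)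
  haveI : Group.IsSolvable L' :=
    Group.isSolvable_of_surjective (f := ρ.subgroupMap L) (MonoidHom.subgroupMap_surjective ρ L)
  have hL' : ¬ L' ≤ center (G ⧸ O) := by
    intro hc
    obtain ⟨c, hcZ, hcu⟩ := mem_centMod.mp huz
    have h1 : c ∈ O := by
      have h2 := mem_center_iff.mp (hc (Subgroup.mem_map_of_mem ρ hzL)) (ρ u)
      have h3 : ρ (u * z * u⁻¹) = ρ z := by rw [map_mul, map_mul, h2, map_inv, mul_inv_cancel_right]
      rw [hcu, map_mul, mul_eq_left] at h3
      exact (QuotientGroup.eq_one_iff c).mp h3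
    have h4 : c ^ 2 = 1 := by
      have h5 : (u * z * u⁻¹) ^ 2 = (z * c) ^ 2 := by rw [hcu]
      rw [conj_pow, mem_center_iff.mp hzt u, mul_inv_cancel_right,
        (show Commute z c from mem_center_iff.mp hcZ z).mul_pow] at h5
      exact mul_eq_left.mp h5.symm
    obtain ⟨i, hi⟩ := H36.isPEl_of_mem (H1.isPGroup_pCore s G) h1
    have h6 : c = 1 := orderOf_eq_one_iff.mp (Nat.eq_one_of_dvd_coprimes
      (((Nat.coprime_primes Nat.prime_two hs.out).mpr h2s).pow_right i)
      (orderOf_dvd_of_pow_eq_one h4) hi.dvd)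
    rw [h6, mul_one, mul_inv_eq_iff_eq_mul] at hcu
    exact huC (hzh ▸ mem_cent.mpr hcu)
  obtain ⟨t, ht, Wb, hWn, hWp, hWc⟩ := exists_normal_pGroup L' hL'
  have hts : t ≠ s := fun hts => hWc (by
    subst hts
    exact (H1.le_pCore hWp).trans ((H1.pCore_quotient_pCore t G).le.trans bot_le))
  set M := Wb.comap ρ
  -- part of each good centraliser
  have key : ∀ (p : ℕ) [Fact p.Prime] (g : G), IsGood s p g →
      ∃ T : Sylow t G, (T : Subgroup G) ⊓ M ≤ C[g] := by
    intro p hp g hg
    obtain ⟨T, hT⟩ : ∃ T : Sylow t G,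
        (T : Subgroup G) ≤ normalizer ((C[g] : Subgroup G) : Set G) := by
      by_cases htd : t ∣ (C[g]).index
      · obtain ⟨R, y, -, -, -, hcm, hyg, -, -⟩ := K.exists_rep hg hts htd
        exact ⟨R, hyg ▸ hcm.trans (centMod_le_normalizer y)⟩
      · obtain ⟨R, hR⟩ := not_dvd_index_iff.mp htd
        exact ⟨R, hR.trans le_normalizer⟩
    refine ⟨T, fun w hw => ?_⟩
    obtain ⟨r, hr, hrt, v, hv, hvg⟩ := K.toAC.exists_other hg t
    have hCv : C[v] = C[g] := K.cent p r g v hg hvg hv
    set d := w⁻¹ * v * w * v⁻¹ with hdef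
    have hdM : d ∈ M := by
      have := mul_mem (M.inv_mem hw.2) ((inferInstance : M.Normal).conj_mem _ hw.2 v)
      simpa [hdef, mul_assoc] using this
    have hdC : d ∈ C[g] := by
      refine mul_mem ?_ (inv_mem hv)
      have := (mem_normalizer_iff.mp (inv_mem (hT hw.1)) v).mp hv
      simpa [mul_assoc] using this
    have hvd : Commute v d := mem_cent_comm.mp (hCv ▸ hdC)
    have hpow : ∀ j : ℕ, v ^ j * w * (v ^ j)⁻¹ = w * d ^ j := by
      intro j
      induction j with
      | zero => simp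
      | succ j ih =>
        calc v ^ (j + 1) * w * (v ^ (j + 1))⁻¹ = v * (v ^ j * w * (v ^ j)⁻¹) * v⁻¹ := by
              rw [pow_succ']; group
          _ = v * w * v⁻¹ * (v * d ^ j * v⁻¹) := by rw [ih]; group
          _ = w * d * d ^ j := by
            rw [(hvd.pow_right j).eq, mul_inv_cancel_right, hdef]; group
          _ = _ := by rw [mul_assoc, ← pow_succ']
    have hd1 : d ^ orderOf v = 1 := by
      have := hpow (orderOf v)
      rw [pow_orderOf_eq_one, inv_one, one_mul, mul_one] at this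
      exact mul_eq_left.mp this.symm
    obtain ⟨a, ha⟩ := hWp ⟨ρ d, hdM⟩
    have ha' : d ^ t ^ a ∈ O :=
      (QuotientGroup.eq_one_iff _).mp (by simpa [hρ] using congrArg Subtype.val ha)
    obtain ⟨b, hb⟩ := H1.isPGroup_pCore s G ⟨_, ha'⟩
    have hb' : d ^ (t ^ a * s ^ b) = 1 := by
      rw [pow_mul]; simpa using congrArg Subtype.val hb
    obtain ⟨i, hi⟩ := hvg.2.1
    have hd' : d = 1 := orderOf_eq_one_iff.mp (Nat.eq_one_of_dvd_coprimes
      (Nat.Coprime.mul_right
        ((((Nat.coprime_primes hr.out ht.out).mpr hrt).pow_left i).pow_right a)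
        ((((Nat.coprime_primes hr.out hs.out).mpr hvg.1).pow_left i).pow_right b))
      ((orderOf_dvd_of_pow_eq_one hd1).trans hi.dvd) (orderOf_dvd_of_pow_eq_one hb'))
    have h1 := hpow 1
    rw [hd', one_pow, mul_one, pow_one, mul_inv_eq_iff_eq_mul] at h1
    exact hCv ▸ mem_cent.mpr h1.symm
  have hMdec : ∀ T : Sylow t G, ∀ m ∈ M, ∃ o ∈ O, ∃ a ∈ (T : Subgroup G) ⊓ M, m = o * a := by
    intro T m hm
    have h1 : Wb ≤ ((T.mapSurjective (QuotientGroup.mk'_surjective O)) : Subgroup (G ⧸ O)) :=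
      hWp.le_sylow_of_normal _
    obtain ⟨a, ha, ham⟩ : ∃ a ∈ (T : Subgroup G), ρ a = ρ m := h1 hm
    refine ⟨m * a⁻¹, (QuotientGroup.eq_one_iff _).mp ?_, a, ⟨ha, mem_comap.mpr (ham ▸ hm)⟩,
      (inv_mul_cancel_right m a).symm⟩
    show ρ (m * a⁻¹) = 1
    rw [map_mul, map_inv, ham, mul_inv_cancel]
  have key' : ∀ (p : ℕ) [Fact p.Prime] (g : G), IsGood s p g →
      ∃ w, IsGood s t w ∧ w ∈ M ∧ w ∈ C[g] := by
    intro p hp g hg
    obtain ⟨T, hT⟩ := key p g hg
    by_contra hcon
    push Not at hcon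
    refine hWc fun y hy => ?_
    obtain ⟨m, rfl⟩ := QuotientGroup.mk'_surjective O y
    obtain ⟨o, ho, a, ha, rfl⟩ := hMdec T m hy
    have haZ : a ∈ center G := by
      by_contra haZ
      exact hcon a ⟨hts, H36.isPEl_of_mem T.isPGroup' ha.1, haZ⟩ ha.2 (hT ha)
    rw [map_mul, (QuotientGroup.eq_one_iff o).mpr ho |> fun e => (show ρ o = 1 from e), one_mul,
      mem_center_iff]
    intro g'
    obtain ⟨g', rfl⟩ := QuotientGroup.mk'_surjective O g'
    rw [← map_mul, ← map_mul, mem_center_iff.mp haZ g']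
  obtain ⟨T, hT⟩ := key t₀ h hh
  have hfull : t ^ (Nat.card M).factorization t ≤ Nat.card ((T : Subgroup G) ⊓ M : Subgroup G) := by
    obtain ⟨P, hPle, hPp, hPc⟩ := H36.exists_full_pSubgroup t M
    obtain ⟨T₁, hT₁⟩ := hPp.exists_le_sylow
    obtain ⟨g, rfl⟩ := MulAction.exists_smul_eq G T T₁
    rw [← hPc]
    refine le_of_le_of_eq (card_le_of_le (K := ((T : Subgroup G) ⊓ M).map
      (MulAut.conj g).toMonoidHom) fun x hx => ?_) (card_map_of_injective (MulAut.conj g).injective)
    have h1 := hT₁ hx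
    rw [Sylow.coe_subgroup_smul] at h1
    obtain ⟨a, ha, rfl⟩ := h1
    refine ⟨a, ⟨ha, ?_⟩, rfl⟩
    have := (inferInstance : M.Normal).conj_mem _ (hPle hx) g⁻¹
    simpa [mul_assoc] using this
  have hgen : ∀ (p : ℕ) [Fact p.Prime] (g : G), IsGood s p g → g ∈ C[h] ⊔ O := by
    intro p hp g hg
    obtain ⟨w, hw, hwM, hwg⟩ := key' p g hg
    obtain ⟨x, hxM, hx⟩ := exists_conj_mem_full (T.isPGroup'.to_le inf_le_left) inf_le_right
      hfull hw.2.1 hwM
    obtain ⟨o, ho, a, ha, rfl⟩ := hMdec T x hxM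
    have h1 : o⁻¹ * w * o⁻¹⁻¹ ∈ C[h] := by
      have := mul_mem (mul_mem (hT ha) (hT hx)) (inv_mem (hT ha))
      simpa [mul_assoc] using this
    have h2 : C[o⁻¹ * w * o⁻¹⁻¹] = C[h] := K.cent t₀ t h _ hh (hw.conj o⁻¹) h1
    have h3 : o⁻¹ * g * o⁻¹⁻¹ ∈ C[h] := by
      rw [← h2, mem_cent_conj, K.cent p t g w hg hw hwg]
      exact mem_cent.mpr (by simp [mul_assoc])
    have hoS : o ∈ C[h] ⊔ O := mem_sup_right ho
    have := mul_mem (mul_mem hoS (mem_sup_left (T := O) h3)) (inv_mem hoS)
    simpa [mul_assoc] using this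
  -- the `2`-part
  obtain ⟨R⟩ : Nonempty (Sylow 2 G) := inferInstance
  have hR : (R : Subgroup G) ≤ C[h] ⊔ O := fun x hx => by
    by_cases hxZ : x ∈ center G
    · exact mem_sup_left (center_le_centralizer _ hxZ)
    · exact hgen 2 x ⟨h2s, H36.isPEl_of_mem R.isPGroup' hx, hxZ⟩
  have h1 : Nat.card (R : Subgroup G) ∣ Nat.card O * Nat.card C[h] := by
    refine (card_dvd_of_le hR).trans ?_
    have h2 : Nat.card O * O.relIndex (C[h] ⊔ O) = Nat.card (C[h] ⊔ O : Subgroup G) := by
      rw [← relIndex_bot_left, relIndex_mul_relIndex _ _ _ bot_le le_sup_right, relIndex_bot_left]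
    rw [← h2, relIndex_sup_right]
    exact Nat.mul_dvd_mul_left _ (relIndex_dvd_card _ _)
  obtain ⟨b, hb⟩ := H1.card_pCore_eq_pow s G
  rw [R.card_eq_multiplicity] at h1
  have h3 : 2 ^ (Nat.card G).factorization 2 ∣ Nat.card C[h] :=
    (Nat.Coprime.dvd_of_dvd_mul_left (hb ▸ (((Nat.coprime_primes Nat.prime_two hs.out).mpr
      h2s).pow_left _).pow_right b) h1)
  have h4 := (Nat.prime_two.pow_dvd_iff_le_factorization Nat.card_pos.ne').mp h3
  have h5 := factorization_card_add_index C[h] 2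
  have h6 := Nat.Prime.factorization_pos_of_dvd Nat.prime_two index_ne_zero_of_finite hd
  omega

end Config

end H27.Three
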