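import Cfsg.Agent.H27.ThreeSizes.AC

/-!
In the setting `H27.Three.AC`, centralisers with equal parts for the primes other than `s` are
conjugate.
-/

set_option autoImplicit false
set_option linter.style.haveILetI false

namespace H27.Three

open Subgroup H27.CMN
open H36 (IsPEl isPEl_of_mem)

local notation "C[" x "]" => Subgroup.centralizer (Singleton.singleton x : Set _)

variable {G : Type*} [Group G] [Finite G] {s : ℕ}

omit [Finite G] in
theorem card_map_mk (W : Subgroup G) :
    Nat.card (W.map (QuotientGroup.mk' (center G))) = (center G).relIndex W := by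
  rw [← relIndex_bot_left, ← map_bot (QuotientGroup.mk' (center G)), relIndex_map_map, bot_sup_eq,
    QuotientGroup.ker_mk', relIndex_sup_right]

theorem relIndex_pos' (H K : Subgroup G) : 0 < H.relIndex K :=
  Nat.pos_of_ne_zero fun h => index_ne_zero_of_finite (H := H.subgroupOf K) h

theorem factorization_card_add_index (H : Subgroup G) (p : ℕ) :
    (Nat.card H).factorization p + H.index.factorization p = (Nat.card G).factorization p := by
  rw [← H.card_mul_index, Nat.factorization_mul Nat.card_pos.ne' index_ne_zero_of_finite,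
    Finsupp.add_apply]

namespace AC

/-- Semiregularity: `t` divides the order of `rPart h p` modulo the centre less one. -/
theorem modEq_one (A : AC G s) {t₀ t p : ℕ} [Fact t₀.Prime] [Fact t.Prime] [Fact p.Prime] {h : G}
    (hh : IsGood s t₀ h) (hts : t ≠ s) (hps : p ≠ s) (htp : t ≠ p) (hd : t ∣ (C[h]).index)
    (hB : ¬ rPart h t ≤ center G) :
    (center G).relIndex (rPart h p) ≡ 1 [MOD t] := by
  obtain ⟨u, hu, huN, huC, -⟩ := A.exists_normalizer_not_mem hh hts hd hB
  rw [← card_map_mk]
  exact card_map_modEq_one htp (isPGroup_rPart h) hu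
    (fun v hv w hw => conj_mem_rPart ((zpowers_le.mpr huN) hv) hw)
    fun w hw hc => A.fixed_points hh hps huC hw hc

/-- Some prime has a full or large part. -/
theorem exists_big (A : AC G s) {t : ℕ} [ht : Fact t.Prime] {h : G} (hh : IsGood s t h) :
    ∃ (p : ℕ) (_ : Fact p.Prime), (∃ v ∈ C[h], IsGood s p v) ∧
      (¬ p ∣ (C[h]).index ∨ p < (center G).relIndex (rPart h p)) := by
  by_contra hall
  push Not at hall
  have key : ∀ (p : ℕ) [Fact p.Prime] (v : G), v ∈ C[h] → IsGood s p v →
      p ∣ (C[h]).index ∧ (center G).relIndex (rPart h p) = p ∧ ¬ rPart h p ≤ center G := by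
    intro p hp v hv hvg
    obtain ⟨h1, h2⟩ := hall p hp ⟨v, hv, hvg⟩
    refine ⟨h1, le_antisymm h2 (Nat.le_of_dvd (relIndex_pos' _ _)
      (A.dvd_relIndex_rPart hh hv hvg)), fun hle => hvg.2.2 (hle ?_)⟩
    exact A.mem_rPart hh hvg.1 hv hvg.2.1
  obtain ⟨p, hp, hpt, v, hv, hvg⟩ := A.other t h hh
  obtain ⟨h1, h1', h1''⟩ := key t h (mem_cent.mpr rfl) hh
  obtain ⟨h2, h2', h2''⟩ := key p v hv hvg
  have e1 := A.modEq_one hh hh.1 hvg.1 hpt.symm h1 h1''
  have e2 := A.modEq_one hh hvg.1 hh.1 hpt h2 h2''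
  rw [h2'] at e1
  rw [h1'] at e2
  rcases lt_or_gt_of_ne hpt with hlt | hlt
  · exact hp.out.one_lt.ne' (e1.eq_of_lt_of_lt hlt ht.out.one_lt)
  · exact ht.out.one_lt.ne' (e2.eq_of_lt_of_lt hlt hp.out.one_lt)

/-- Centralisers with the same `p`-part, full or large, are conjugate. -/
theorem exists_conj (A : AC G s) {t t' p : ℕ} [Fact t.Prime] [Fact t'.Prime] [hp : Fact p.Prime]
    {h h' v : G} (hh : IsGood s t h) (hh' : IsGood s t' h') (hv : v ∈ C[h]) (hvg : IsGood s p v)
    (he : (Nat.card C[h]).factorization p = (Nat.card C[h']).factorization p)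
    (hbig : ¬ p ∣ (C[h]).index ∨ p < (center G).relIndex (rPart h p)) :
    ∃ g : G, C[h'] = C[g * h * g⁻¹] := by
  obtain ⟨R, hR⟩ := (isPGroup_rPart (r := p) h).exists_le_sylow
  obtain ⟨R', hR'⟩ := (isPGroup_rPart (r := p) h').exists_le_sylow
  obtain ⟨g, rfl⟩ := MulAction.exists_smul_eq G R R'
  set h'' := g⁻¹ * h' * g
  have hh'' : IsGood s t' h'' := by simpa [h''] using hh'.conj g⁻¹
  have hR'' : rPart h'' p ≤ (R : Subgroup G) := by
    intro w hw
    have h1 : g * w * g⁻¹ ∈ rPart h' p := by
      have := conj_mem_centPow (g := g) hw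
      rwa [show g * h'' * g⁻¹ = h' by simp [h'', mul_assoc]] at this
    have h2 := hR' h1
    rw [Sylow.coe_subgroup_smul] at h2
    obtain ⟨a, ha, hag⟩ := h2
    have h3 : g * a * g⁻¹ = g * w * g⁻¹ := hag
    rwa [← mul_left_cancel (mul_right_cancel h3)]
  have he'' : (Nat.card C[h'']).factorization p = (Nat.card C[h]).factorization p := by
    rw [he]
    have h1 := cent_conj g h''
    rw [show g * h'' * g⁻¹ = h' by simp [h'', mul_assoc]] at h1
    rw [h1, card_map_of_injective (MulAut.conj g).injective]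
  suffices heq : C[h] = C[h''] by
    refine ⟨g, ?_⟩
    rw [cent_conj, heq, ← cent_conj]
    simp [h'', mul_assoc]
  have hvA : v ∈ rPart h p := A.mem_rPart hh hvg.1 hv hvg.2.1
  rcases hbig with hfull | hbig
  · -- full Sylow subgroup
    have h1 : Nat.card (rPart h'' p) = Nat.card (R : Subgroup G) := by
      rw [A.card_rPart hh'' hvg.1, he'', R.card_eq_multiplicity,
        ← factorization_card_add_index C[h] p, Nat.factorization_eq_zero_of_not_dvd hfull, add_zero]
    have h2 : rPart h'' p = (R : Subgroup G) := eq_of_le_of_card_ge hR'' h1.ge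
    exact A.eq_of_common hh hh'' hvg hv (Sizes.rPart_le_cent h'' (h2.symm ▸ hR hvA))
  · obtain ⟨z, hzR, hz, -, -, -, -, hzd⟩ := A.exists_normalised hvg.1 R
      (fun hle => hvg.2.2 (hle (hR hvA)))
    have h1 := (A.rPart_cases hvg.1 hz hzd hh hR).resolve_right (not_le.mpr hbig)
    have h2 := (A.rPart_cases hvg.1 hz hzd hh'' hR'').resolve_right
      (not_le.mpr (A.relIndex_rPart_eq hh'' hh hvg.1 he'' ▸ hbig))
    rw [h1, h2]

end AC

end H27.Three
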